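import Cfsg.Agent.Lib.NonMax.Basic
import Cfsg.Agent.Lib.LinGroup.Generation

/-!
The stabiliser of a subspace is maximal in `SL_n`; stabilisers of pairs of subspaces are not.
-/

set_option autoImplicit false

namespace Cfsg.Agent.Lib.NonMax

open Cfsg Cfsg.Geo Matrix Cfsg.Agent.Lib.MaxClass

variable {n : ℕ} {F : Type*} [Field F]

local notation "V" => (Fin n → F)

lemma tv_mem_stab {W : Submodule F V} {v φ : V} (h : φ ⬝ᵥ v = 0)
    (hWv : v ∈ W ∨ ∀ x ∈ W, φ ⬝ᵥ x = 0) : tv v φ h ∈ subspaceStabilizer W := by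
  refine mem_subspaceStabilizer_of_mapsTo fun x hx => ?_
  rw [tv_mulVec]
  rcases hWv with hv | hv
  · exact W.add_mem hx (W.smul_mem _ hv)
  · rw [hv x hx, zero_smul, add_zero]
    exact hx

/-- A transvection fixing `W` moving `u ∈ U` out of `U`. -/
theorem exists_between_pair {W U : Submodule F V} (h0 : W ≠ ⊥) (h1 : W ≠ ⊤) {u v : V} (hu : u ∈ U)
    (hv : v ∉ U) (huv : u ∉ W ⊔ Submodule.span F {v}) :
    ∃ K : Subgroup (GL (Fin n) F),
      subspaceStabilizer W ⊓ subspaceStabilizer U ⊓ specialLinear (Fin n) F < K ∧ K < specialLinear (Fin n) F := by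
  obtain ⟨φ, hφu, hφ⟩ := exists_dot huv
  have hφv : φ ⬝ᵥ v = 0 := hφ v (Submodule.mem_sup_right (Submodule.mem_span_singleton_self v))
  obtain ⟨x, hx, hx'⟩ := Set.not_subset.mp (not_le_subspaceStabilizer h0 h1 :
    ¬ (specialLinear (Fin n) F : Set (GL (Fin n) F)) ⊆ subspaceStabilizer W)
  refine exists_between (K := subspaceStabilizer W ⊓ specialLinear (Fin n) F) (inf_le_inf_right _ inf_le_left)
    inf_le_right (g := tv v φ hφv)
    ⟨tv_mem_stab hφv (Or.inr fun x hx => hφ x (Submodule.mem_sup_left hx)), tv_mem_specialLinear _ _ _⟩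
    ?_ hx (fun h => hx' h.1)
  intro h
  have h2 := mapsTo_of_mem_subspaceStabilizer h.1.2 hu
  rw [tv_mulVec, hφu, one_smul] at h2
  exact hv (by simpa using U.sub_mem h2 hu)

theorem exists_between_flag {W U : Submodule F V} (hW0 : W ≠ ⊥) (hWU : W < U) (hU : U ≠ ⊤) :
    ∃ K : Subgroup (GL (Fin n) F),
      subspaceStabilizer W ⊓ subspaceStabilizer U ⊓ specialLinear (Fin n) F < K ∧ K < specialLinear (Fin n) F := by
  obtain ⟨u, hu, huW⟩ := SetLike.exists_of_lt hWU
  obtain ⟨v, -, hv⟩ := SetLike.exists_of_lt (lt_top_iff_ne_top.mpr hU)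
  refine exists_between_pair hW0 (fun h => hU (top_unique (h ▸ hWU.le))) hu hv fun h => ?_
  obtain ⟨w, hw, z, hz, hwz⟩ := Submodule.mem_sup.mp h
  obtain ⟨c, rfl⟩ := Submodule.mem_span_singleton.mp hz
  rcases eq_or_ne c 0 with rfl | hc
  · exact huW (by rw [← hwz, zero_smul, add_zero]; exact hw)
  · apply hv
    have : c • v ∈ U := by
      rw [eq_sub_of_add_eq' hwz]
      exact U.sub_mem hu (hWU.le hw)
    simpa [smul_smul, hc] using U.smul_mem c⁻¹ this

theorem exists_between_complement {W U : Submodule F V} (hW0 : W ≠ ⊥) (hU0 : U ≠ ⊥) (hWU : W ⊓ U = ⊥) :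
    ∃ K : Subgroup (GL (Fin n) F),
      subspaceStabilizer W ⊓ subspaceStabilizer U ⊓ specialLinear (Fin n) F < K ∧ K < specialLinear (Fin n) F := by
  obtain ⟨u, hu, hu0⟩ := U.ne_bot_iff.mp hU0
  obtain ⟨v, hv, hv0⟩ := W.ne_bot_iff.mp hW0
  have hnot : ∀ x, x ≠ 0 → x ∈ W → x ∉ U := fun x hx hxW hxU =>
    hx ((Submodule.mem_bot F).mp (hWU ▸ Submodule.mem_inf.mpr ⟨hxW, hxU⟩))
  refine exists_between_pair hW0 (fun h => hU0 (by rw [← hWU, h, top_inf_eq])) hu (hnot v hv0 hv) ?_
  rw [sup_eq_left.mpr ((Submodule.span_singleton_le_iff_mem _ _).mpr hv)]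
  exact fun h => hnot u hu0 h hu

/-- The stabiliser in `SL_n` of a proper non-zero subspace is maximal. -/
theorem isMaximalIn_subspaceStabilizer {W : Submodule F V} (h0 : W ≠ ⊥) (h1 : W ≠ ⊤) :
    IsMaximalIn (specialLinear (Fin n) F) (subspaceStabilizer W ⊓ specialLinear (Fin n) F) := by
  refine ⟨lt_of_le_not_ge inf_le_right fun h => not_le_subspaceStabilizer h0 h1 (h.trans inf_le_left),
    fun M hHM hMS => ?_⟩
  by_cases hstab : ∀ g ∈ M, ∀ w ∈ W, (g : Matrix (Fin n) (Fin n) F) *ᵥ w ∈ W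
  · exact Or.inl (le_antisymm (fun g hg => ⟨mem_subspaceStabilizer_of_mapsTo (hstab g hg), hMS hg⟩) hHM)
  right
  push Not at hstab
  obtain ⟨g, hg, w₀, hw₀, hgw⟩ := hstab
  let P : V → Prop := fun v => ∀ (φ : V) (h : φ ⬝ᵥ v = 0), tv v φ h ∈ M
  have hW : ∀ v ∈ W, P v := fun v hv φ h => hHM ⟨tv_mem_stab h (Or.inl hv), tv_mem_specialLinear _ _ _⟩
  have hconj : ∀ x ∈ M, ∀ v, P v → P ((x : Matrix (Fin n) (Fin n) F) *ᵥ v) := by
    intro x hx v hv φ h
    have h' : (φ ᵥ* (x : Matrix (Fin n) (Fin n) F)) ⬝ᵥ v = 0 := by rw [← dotProduct_mulVec]; exact h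
    have key : tv ((x : Matrix (Fin n) (Fin n) F) *ᵥ v) φ h = x * tv v (φ ᵥ* (x : Matrix (Fin n) (Fin n) F)) h' * x⁻¹ := by
      apply Units.ext
      rw [Units.val_mul, Units.val_mul, coe_tv, coe_tv, mul_add, add_mul, mul_one, ← Units.val_mul, mul_inv_cancel,
        Units.val_one, Matrix.mul_vecMulVec, Matrix.vecMulVec_mul, Matrix.vecMul_vecMul, ← Units.val_mul,
        mul_inv_cancel, Units.val_one, Matrix.vecMul_one]
    rw [key]
    exact M.mul_mem (M.mul_mem hx (hv _ _)) (M.inv_mem hx)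
  have hsmul : ∀ (c : F) (v : V), c ≠ 0 → P v → P (c • v) := by
    intro c v hc hv φ h
    have h' : (c • φ) ⬝ᵥ v = 0 := by rw [smul_dotProduct, ← dotProduct_smul]; exact h
    have key : tv (c • v) φ h = tv v (c • φ) h' := by
      apply Units.ext
      rw [coe_tv, coe_tv, Matrix.smul_vecMulVec, Matrix.vecMulVec_smul]
    rw [key]
    exact hv _ _
  have hall : ∀ y, P y := by
    intro y
    by_cases hy : y ∈ W
    · exact hW y hy
    set x := (g : Matrix (Fin n) (Fin n) F) *ᵥ w₀
    have hx : P x := hconj g hg w₀ (hW w₀ hw₀)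
    by_cases hyx : y ∈ W ⊔ Submodule.span F {x}
    · obtain ⟨w, hw, z, hz, rfl⟩ := Submodule.mem_sup.mp hyx
      obtain ⟨c, rfl⟩ := Submodule.mem_span_singleton.mp hz
      have hc : c ≠ 0 := fun hc => hy (by rw [hc, zero_smul, add_zero]; exact hw)
      rw [show w + c • x = c • (x + c⁻¹ • w) by rw [smul_add, smul_smul, mul_inv_cancel₀ hc, one_smul, add_comm]]
      apply hsmul c _ hc
      rcases eq_or_ne w 0 with rfl | hw0
      · simpa using hx
      have hxw : x ∉ Submodule.span F {c⁻¹ • w} := fun h => hgw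
        ((Submodule.span_singleton_le_iff_mem _ _).mpr (W.smul_mem c⁻¹ hw) h)
      obtain ⟨φ, hφx, hφ⟩ := exists_dot hxw
      have hφw := hφ _ (Submodule.mem_span_singleton_self _)
      have := hconj _ (hHM ⟨tv_mem_stab hφw (Or.inl (W.smul_mem c⁻¹ hw)), tv_mem_specialLinear _ _ _⟩) x hx
      rwa [tv_mulVec, hφx, one_smul] at this
    · have hxy : x ∉ W ⊔ Submodule.span F {y - x} := by
        intro h
        obtain ⟨w, hw, z, hz, hwz⟩ := Submodule.mem_sup.mp h
        obtain ⟨c, rfl⟩ := Submodule.mem_span_singleton.mp hz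
        rcases eq_or_ne c 0 with rfl | hc
        · exact hgw (by rw [zero_smul, add_zero] at hwz; exact hwz ▸ hw)
        · apply hyx
          have hy' : y = c⁻¹ • (-w) + c⁻¹ • ((1 + c) • x) := by
            rw [← smul_add, eq_comm, inv_smul_eq_iff₀ hc, add_smul, one_smul]
            linear_combination (norm := module) -hwz
          rw [hy']
          exact Submodule.add_mem_sup (W.smul_mem _ (W.neg_mem hw))
            (Submodule.smul_mem _ _ (Submodule.smul_mem _ _ (Submodule.mem_span_singleton_self x)))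
      obtain ⟨φ, hφx, hφ⟩ := exists_dot hxy
      have hφv := hφ _ (Submodule.mem_sup_right (Submodule.mem_span_singleton_self _))
      have := hconj _ (hHM ⟨tv_mem_stab hφv (Or.inr fun z hz => hφ z (Submodule.mem_sup_left hz)),
        tv_mem_specialLinear _ _ _⟩) x hx
      rwa [tv_mulVec, hφx, one_smul, add_sub_cancel] at this
  refine le_antisymm hMS fun s hs => ?_
  let S : Matrix.SpecialLinearGroup (Fin n) F :=
    ⟨(s : Matrix (Fin n) (Fin n) F), (Matrix.GeneralLinearGroup.val_det_apply s).symm.trans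
      (by rw [show Matrix.GeneralLinearGroup.det s = 1 from hs, Units.val_one])⟩
  have htop := LinGroup.eq_top_of_transvection_mem
    (M.comap (Matrix.SpecialLinearGroup.toGL : Matrix.SpecialLinearGroup (Fin n) F →* GL (Fin n) F))
    (fun i j hij c => by
      have h : (Pi.single j (1 : F)) ⬝ᵥ (Pi.single i c : V) = 0 := by simp [hij, Ne.symm hij]
      show Matrix.SpecialLinearGroup.toGL _ ∈ M
      have e : Matrix.SpecialLinearGroup.toGL (Matrix.SpecialLinearGroup.transvection hij c) =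
          tv (Pi.single i c) (Pi.single j 1) h := by
        apply Units.ext
        show Matrix.transvection i j c = _
        rw [coe_tv, Matrix.transvection]; congr 1; ext a b; simp only [Matrix.single, Matrix.of_apply, Matrix.vecMulVec_apply, Pi.single_apply]; rcases eq_or_ne a i with rfl | ha <;> rcases eq_or_ne b j with rfl | hb <;> simp_all [Ne.symm]
      rw [e]
      exact hall _ _ _)
  have hS : S ∈ (⊤ : Subgroup (Matrix.SpecialLinearGroup (Fin n) F)) := Subgroup.mem_top _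
  rw [← htop] at hS
  have e : Matrix.SpecialLinearGroup.toGL S = s := Units.ext rfl
  rw [← e]
  exact hS

end Cfsg.Agent.Lib.NonMax
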