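import Cfsg.Agent.Lib.NonMax.Decomp

/-!
Reflections of a quadratic form given as a function, and plus-type planes over at most three elements.
-/

set_option autoImplicit false

namespace Cfsg.Agent.Lib.NonMax

open Cfsg Cfsg.Geo Matrix
open scoped commutatorElement

variable {ι : Type} [Fintype ι] [DecidableEq ι] {F : Type*} [Field F] {Q : (ι → F) → F}

local notation "B" => QuadraticMap.polar Q

lemma commutator_mem_omegaGL {g h : GL ι F} (hg : g ∈ isometryGroup F Q) (hh : h ∈ isometryGroup F Q) :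
    ⁅g, h⁆ ∈ omegaGL Q :=
  ⟨⁅(⟨g, hg⟩ : isometryGroup F Q), ⟨h, hh⟩⁆,
    Subgroup.commutator_mem_commutator (Subgroup.mem_top _) (Subgroup.mem_top _), rfl⟩

lemma quad_add (x y : ι → F) : Q (x + y) = Q x + Q y + B x y := by
  simp only [QuadraticMap.polar]
  ring

lemma polar_symm (x y : ι → F) : B x y = B y x := QuadraticMap.polar_comm Q x y

lemma quad_zero (hQ : IsNondegenerateQuadraticForm Q) : Q 0 = 0 := by
  have := hQ.smul 0 0
  rw [zero_smul] at this
  rw [this]
  ring

lemma polar_self (hQ : IsNondegenerateQuadraticForm Q) (x : ι → F) : B x x = 2 * Q x := by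
  simp only [QuadraticMap.polar]
  rw [show x + x = (2 : F) • x by rw [two_smul], hQ.smul]
  ring

lemma polar_sub_left (hQ : IsNondegenerateQuadraticForm Q) (x y z : ι → F) : B (x - y) z = B x z - B y z := by
  have := hQ.polar_bilinear.add_left (x - y) y z
  rw [sub_add_cancel] at this
  linear_combination -this

lemma polar_sub_right (hQ : IsNondegenerateQuadraticForm Q) (x y z : ι → F) : B x (y - z) = B x y - B x z := by
  rw [polar_symm, polar_sub_left hQ, polar_symm y, polar_symm z]

/-- The reflection in a non-singular vector. -/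
theorem exists_refl (hQ : IsNondegenerateQuadraticForm Q) {w : ι → F} (hw : Q w ≠ 0) :
    ∃ g : GL ι F, g ∈ isometryGroup F Q ∧ g * g = 1 ∧
      ∀ x, (g : Matrix ι ι F) *ᵥ x = x - (B x w / Q w) • w := by
  let L : (ι → F) →ₗ[F] (ι → F) :=
    { toFun := fun x => x - (B x w / Q w) • w
      map_add' := fun x y => by
        rw [hQ.polar_bilinear.add_left, add_div, add_smul]
        abel
      map_smul' := fun c x => by
        rw [hQ.polar_bilinear.smul_left, RingHom.id_apply, smul_sub, smul_smul, mul_div_assoc] }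
  have hLL : ∀ x, L (L x) = x := fun x => by
    show (x - (B x w / Q w) • w) - (B (x - (B x w / Q w) • w) w / Q w) • w = x
    rw [polar_sub_left hQ, hQ.polar_bilinear.smul_left, polar_self hQ]
    rw [show (B x w - B x w / Q w * (2 * Q w)) / Q w = -(B x w / Q w) by field_simp; ring]
    module
  obtain ⟨g, hg⟩ := exists_gl L (Function.LeftInverse.injective hLL)
  refine ⟨g, fun u v => ?_, ?_, hg⟩
  · show Q ((g : Matrix ι ι F) *ᵥ u) = Q u
    rw [hg]
    show Q (u - (B u w / Q w) • w) = Q u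
    rw [sub_eq_add_neg, ← neg_smul, quad_add (Q := Q), hQ.smul, hQ.polar_bilinear.smul_right]
    field_simp
    ring
  · refine Units.ext (Matrix.ext_iff_mulVec.mpr fun x => ?_)
    rw [Units.val_mul, ← Matrix.mulVec_mulVec, hg, hg, hLL, Units.val_one, Matrix.one_mulVec]

lemma refl_fix (hQ : IsNondegenerateQuadraticForm Q) {g : GL ι F} {w x : ι → F}
    (hg : ∀ x, (g : Matrix ι ι F) *ᵥ x = x - (B x w / Q w) • w) (hx : B x w = 0) :
    (g : Matrix ι ι F) *ᵥ x = x := by
  have := hQ
  rw [hg, hx, zero_div, zero_smul, sub_zero]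

lemma comm_refl_eq {g h : GL ι F} (hg : g * g = 1) (hh : h * h = 1) : ⁅g, h⁆ = g * h * g * h := by
  rw [commutatorElement_def, inv_eq_of_mul_eq_one_right hg, inv_eq_of_mul_eq_one_right hh]

/-- The commutator of two reflections on vectors orthogonal to the second. -/
lemma comm_refl_apply (hQ : IsNondegenerateQuadraticForm Q) {g h : GL ι F} {p s x : ι → F} (hp : Q p ≠ 0)
    (hs : Q s ≠ 0) (hgg : g * g = 1) (hhh : h * h = 1)
    (hg : ∀ x, (g : Matrix ι ι F) *ᵥ x = x - (B x p / Q p) • p)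
    (hh : ∀ x, (h : Matrix ι ι F) *ᵥ x = x - (B x s / Q s) • s) (hx : B x s = 0) :
    (⁅g, h⁆ : GL ι F).val *ᵥ x =
      x + (B x p / Q p * (B p s / Q s)) • (s - (B s p / Q p) • p) := by
  rw [comm_refl_eq hgg hhh, Units.val_mul, Units.val_mul, Units.val_mul, ← Matrix.mulVec_mulVec,
    ← Matrix.mulVec_mulVec, ← Matrix.mulVec_mulVec, refl_fix hQ hh hx, hg x, hh, polar_sub_left hQ,
    hQ.polar_bilinear.smul_left, hx, hg, polar_sub_left hQ, polar_sub_left hQ, hQ.polar_bilinear.smul_left,
    hQ.polar_bilinear.smul_left, polar_self hQ]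
  match_scalars <;> field_simp <;> ring

/-- Plus-type planes over at most three elements: the stabiliser lies in the stabiliser of a point. -/
theorem exists_between_plus_plane [Fintype F] (hQ : IsNondegenerateQuadraticForm Q) (hn : 7 ≤ Fintype.card ι)
    (hq : Fintype.card F ≤ 3) {W : Submodule F (ι → F)} (hdim : Module.finrank F W = 2)
    (hW : IsNondegenerateOn B W) (hWp : IsPlusTypeOn Q W) :
    ∃ K : Subgroup (GL ι F), subspaceStabilizer W ⊓ omegaGL Q < K ∧ K < omegaGL Q := by
  classical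
  have hbl := hQ.polar_bilinear
  have hB0 : ∀ x, B x 0 = 0 := fun x => by
    have := hbl.smul_right 0 x 0
    rwa [zero_smul, zero_mul] at this
  obtain ⟨U, hUW, hU, hUd⟩ := hWp
  obtain ⟨e, he, he0⟩ := U.ne_bot_iff.mp fun h => by rw [h, finrank_bot] at hUd; omega
  have hQe : Q e = 0 := hU e he
  obtain ⟨-, ⟨f₁, hf₁, hf₁e⟩⟩ := hW e (hUW he) he0
  obtain ⟨f₂, hf₂⟩ : ∃ w', w' = (B e f₁)⁻¹ • f₁ := ⟨_, rfl⟩
  obtain ⟨f, hf⟩ : ∃ w', w' = f₂ - Q f₂ • e := ⟨_, rfl⟩
  have hef₂ : B e f₂ = 1 := by rw [hf₂, hbl.smul_right, inv_mul_cancel₀ hf₁e]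
  have hee : B e e = 0 := by rw [polar_self hQ, hQe, mul_zero]
  have hef : B e f = 1 := by rw [hf, polar_sub_right hQ, hbl.smul_right, hef₂, hee, mul_zero, sub_zero]
  have hfW : f ∈ W := by
    rw [hf, hf₂]
    exact W.sub_mem (W.smul_mem _ hf₁) (W.smul_mem _ (hUW he))
  have hQf : Q f = 0 := by
    rw [hf, sub_eq_add_neg, ← neg_smul, quad_add (Q := Q), hQ.smul, hQe, hbl.smul_right, polar_symm f₂ e, hef₂]
    ring
  have hff : B f f = 0 := by rw [polar_self hQ, hQf, mul_zero]
  have hfe : B f e = 1 := by rw [polar_symm]; exact hef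
  have hspan : ∀ x ∈ W, x = B x f • e + B x e • f := by
    intro x hx
    by_contra hne
    obtain ⟨y, hy⟩ : ∃ w', w' = x - (B x f • e + B x e • f) := ⟨_, rfl⟩
    have hy0 : y ≠ 0 := hy ▸ sub_ne_zero.mpr hne
    have hyW : y ∈ W := hy ▸ W.sub_mem hx (W.add_mem (W.smul_mem _ (hUW he)) (W.smul_mem _ hfW))
    have hye : B y e = 0 := by
      rw [hy, polar_sub_left hQ, hbl.add_left, hbl.smul_left, hbl.smul_left, hee, hfe]; ring
    have hyf : B y f = 0 := by
      rw [hy, polar_sub_left hQ, hbl.add_left, hbl.smul_left, hbl.smul_left, hff, hef]; ring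
    have hli : LinearIndependent F ![e, f] := by
      rw [LinearIndependent.pair_iff' he0]
      intro a ha
      have h1 := hef
      rw [← ha, hbl.smul_right, hee, mul_zero] at h1
      exact zero_ne_one h1
    have hspan' : Submodule.span F {e, f} = W := by
      refine Submodule.eq_of_le_of_finrank_le
        (Submodule.span_le.mpr (Set.insert_subset (hUW he) (by simpa using hfW))) ?_
      have := finrank_span_eq_card hli
      rw [Fintype.card_fin, Matrix.range_cons, Matrix.range_cons, Matrix.range_empty, Set.union_empty,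
        Set.singleton_union] at this
      omega
    obtain ⟨-, ⟨z, hz, hz'⟩⟩ := hW y hyW hy0
    rw [← hspan'] at hz
    obtain ⟨a, b, rfl⟩ := Submodule.mem_span_pair.mp hz
    exact hz' (by rw [hbl.add_right, hbl.smul_right, hbl.smul_right, hye, hyf]; ring)
  -- vectors orthogonal to given ones
  have hperp : ∀ S T : Finset (ι → F), S.card + T.card < Fintype.card ι →
      ∃ x, (∀ y ∈ S, B x y = 0) ∧ x ∉ Submodule.span F (T : Set (ι → F)) := by
    intro S T hST
    let φ : (ι → F) →ₗ[F] (S → F) :=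
      { toFun := fun x y => B x y.1
        map_add' := fun a b => funext fun y => hbl.add_left a b y.1
        map_smul' := fun c a => funext fun y => hbl.smul_left c a y.1 }
    by_contra hall
    push Not at hall
    have hle : LinearMap.ker φ ≤ Submodule.span F (T : Set (ι → F)) :=
      fun x hx => hall x fun y hy => congrFun (LinearMap.mem_ker.mp hx) ⟨y, hy⟩
    have h1 := Submodule.finrank_mono hle
    have h2 : Module.finrank F (Submodule.span F (T : Set (ι → F))) ≤ T.card := finrank_span_finset_le_card T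
    have h3 := φ.finrank_range_add_finrank_ker
    have h4 : Module.finrank F (LinearMap.range φ) ≤ S.card := (Submodule.finrank_le _).trans (by simp)
    rw [Module.finrank_fintype_fun_eq_card] at h3
    omega
  have hproj : ∀ x, B (x - (B x f • e + B x e • f)) e = 0 ∧ B (x - (B x f • e + B x e • f)) f = 0 := fun x =>
    ⟨by rw [polar_sub_left hQ, hbl.add_left, hbl.smul_left, hbl.smul_left, hee, hfe]; ring,
      by rw [polar_sub_left hQ, hbl.add_left, hbl.smul_left, hbl.smul_left, hff, hef]; ring⟩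
  have hq23 : (Fintype.card F = 2 ∧ (2 : F) = 0) ∨ (Fintype.card F = 3 ∧ (3 : F) = 0) := by
    rcases two_three_four (F := F) (by omega) with h | h | ⟨h, -⟩
    · exact Or.inl h
    · exact Or.inr h
    · omega
  have hpm : ∀ a : F, a ≠ 0 → a = 1 ∨ a = -1 := fun a ha => by
    have h := FiniteField.pow_card_sub_one_eq_one a ha
    rcases hq23 with ⟨hc, -⟩ | ⟨hc, -⟩ <;> rw [hc] at h
    · exact Or.inl (by simpa using h)
    · exact mul_self_eq_one_iff.mp (by rw [← pow_two]; exact h)
  -- a singular vector orthogonal to the plane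
  obtain ⟨z, hz0, hQz, hze, hzf⟩ : ∃ z, z ≠ 0 ∧ Q z = 0 ∧ B z e = 0 ∧ B z f = 0 := by
    obtain ⟨a, ha, haT⟩ := hperp {e, f} ∅ (by
      have := Finset.card_le_two (a := e) (b := f); simp only [Finset.card_empty]; omega)
    have ha0 : a ≠ 0 := fun h => haT (by rw [h]; exact Submodule.zero_mem _)
    have hae := ha e (by simp)
    have haf := ha f (by simp)
    by_cases hQa : Q a = 0
    · exact ⟨a, ha0, hQa, hae, haf⟩
    obtain ⟨b, hb, hbT⟩ := hperp {e, f, a} {a} (by
      have := Finset.card_le_three (a := e) (b := f) (c := a); simp only [Finset.card_singleton]; omega)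
    have hbe := hb e (by simp)
    have hbf := hb f (by simp)
    have hba := hb a (by simp)
    simp only [Finset.coe_singleton] at hbT
    by_cases hQb : Q b = 0
    · exact ⟨b, fun h => hbT (by rw [h]; exact Submodule.zero_mem _), hQb, hbe, hbf⟩
    have hab : a + b ≠ 0 := fun h => hbT (by
      rw [eq_neg_of_add_eq_zero_right h]
      exact Submodule.neg_mem _ (Submodule.mem_span_singleton_self a))
    have habe : B (a + b) e = 0 := by rw [hbl.add_left, hae, hbe, add_zero]
    have habf : B (a + b) f = 0 := by rw [hbl.add_left, haf, hbf, add_zero]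
    have hQab : Q (a + b) = Q a + Q b := by rw [quad_add (Q := Q), polar_symm, hba, add_zero]
    by_cases hsum : Q a + Q b = 0
    · exact ⟨a + b, hab, hQab.trans hsum, habe, habf⟩
    have hc3 : (3 : F) = 0 := by
      rcases hq23 with ⟨hc, h2⟩ | ⟨-, h3⟩
      · exfalso
        apply hsum
        rcases hpm _ hQa with h1 | h1 <;> rcases hpm _ hQb with h2' | h2' <;> rw [h1, h2'] <;>
          first | linear_combination h2 | linear_combination -h2 | ring
      · exact h3
    have hQab' : Q b = Q a := by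
      rcases hpm _ hQa with h1 | h1 <;> rcases hpm _ hQb with h2' | h2' <;>
        first | (rw [h1, h2']; done) | exact absurd (by rw [h1, h2']; ring) hsum
    obtain ⟨c, hc, hcT⟩ := hperp {e, f, a, b} {a, b} (by
      have := Finset.card_le_two (a := a) (b := b)
      have := Finset.card_le_four (a := e) (b := f) (c := a) (d := b)
      omega)
    have hce := hc e (by simp)
    have hcf := hc f (by simp)
    have hca := hc a (by simp)
    have hcb := hc b (by simp)
    by_cases hQc : Q c = 0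
    · exact ⟨c, fun h => hcT (by rw [h]; exact Submodule.zero_mem _), hQc, hce, hcf⟩
    by_cases hsum2 : Q a + Q c = 0
    · refine ⟨a + c, fun h => hcT ?_, ?_, by rw [hbl.add_left, hae, hce, add_zero],
        by rw [hbl.add_left, haf, hcf, add_zero]⟩
      · rw [eq_neg_of_add_eq_zero_right h]
        exact Submodule.neg_mem _ (Submodule.subset_span (by simp))
      · rw [quad_add (Q := Q), polar_symm, hca, add_zero]; exact hsum2
    have hQac : Q c = Q a := by
      rcases hpm _ hQa with h1 | h1 <;> rcases hpm _ hQc with h2' | h2' <;>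
        first | (rw [h1, h2']; done) | exact absurd (by rw [h1, h2']; ring) hsum2
    refine ⟨a + b + c, fun h => hcT ?_, ?_, by rw [hbl.add_left, habe, hce, add_zero],
      by rw [hbl.add_left, habf, hcf, add_zero]⟩
    · rw [eq_neg_of_add_eq_zero_right h]
      exact Submodule.neg_mem _ (Submodule.add_mem _ (Submodule.subset_span (by simp)) (Submodule.subset_span (by simp)))
    · rw [quad_add (Q := Q), hQab, hbl.add_left, polar_symm a c, hca, polar_symm b c, hcb, hQab', hQac]
      linear_combination Q a * hc3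
  obtain ⟨y, hzy, hye, hyf, hQy⟩ : ∃ y, B z y = 1 ∧ B y e = 0 ∧ B y f = 0 ∧ Q y = 1 := by
    obtain ⟨-, ⟨y₁, hy₁⟩⟩ := hQ.nondegenerate z hz0
    obtain ⟨y₂, hy₂⟩ : ∃ w', w' = (B z y₁)⁻¹ • y₁ := ⟨_, rfl⟩
    obtain ⟨y₃, hy₃⟩ : ∃ w', w' = y₂ - (B y₂ f • e + B y₂ e • f) := ⟨_, rfl⟩
    have hzy₃ : B z y₃ = 1 := by
      rw [hy₃, polar_sub_right hQ, hbl.add_right, hbl.smul_right, hbl.smul_right, hze, hzf, hy₂, hbl.smul_right,
        inv_mul_cancel₀ hy₁]
      ring
    refine ⟨y₃ + (1 - Q y₃) • z, ?_, ?_, ?_, ?_⟩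
    · rw [hbl.add_right, hbl.smul_right, hzy₃, polar_self hQ, hQz]; ring
    · rw [hbl.add_left, hbl.smul_left, hze, hy₃, (hproj y₂).1]; ring
    · rw [hbl.add_left, hbl.smul_left, hzf, hy₃, (hproj y₂).2]; ring
    · rw [quad_add (Q := Q), hQ.smul, hQz, hbl.smul_right, polar_symm y₃ z, hzy₃]; ring
  have hyz : B y z = 1 := by rw [polar_symm]; exact hzy
  have hzz : B z z = 0 := by rw [polar_self hQ, hQz, mul_zero]
  obtain ⟨k, hke, hkf, hkz, hky, hQk⟩ : ∃ k, B k e = 0 ∧ B k f = 0 ∧ B k z = 0 ∧ B k y = 0 ∧ Q k ≠ 0 := by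
    obtain ⟨k₁, hk, hkT⟩ := hperp {e, f, z, y} ∅ (by
      have := Finset.card_le_four (a := e) (b := f) (c := z) (d := y); simp only [Finset.card_empty]; omega)
    have hk0 : k₁ ≠ 0 := fun h => hkT (by rw [h]; exact Submodule.zero_mem _)
    have he1 := hk e (by simp)
    have hf1 := hk f (by simp)
    have hz1 := hk z (by simp)
    have hy1 := hk y (by simp)
    by_cases hQ1 : Q k₁ ≠ 0
    · exact ⟨k₁, he1, hf1, hz1, hy1, hQ1⟩
    push Not at hQ1
    obtain ⟨-, ⟨x₀, hx₀⟩⟩ := hQ.nondegenerate k₁ hk0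
    obtain ⟨x₁, hx₁⟩ : ∃ w', w' = x₀ - (B x₀ f • e + B x₀ e • f) := ⟨_, rfl⟩
    obtain ⟨k₂, hk₂⟩ : ∃ w', w' = x₁ - ((B x₁ y - 2 * B x₁ z) • z + B x₁ z • y) := ⟨_, rfl⟩
    have hk₂e : B k₂ e = 0 := by
      rw [hk₂, polar_sub_left hQ, hbl.add_left, hbl.smul_left, hbl.smul_left, hze, hye, hx₁, (hproj x₀).1]; ring
    have hk₂f : B k₂ f = 0 := by
      rw [hk₂, polar_sub_left hQ, hbl.add_left, hbl.smul_left, hbl.smul_left, hzf, hyf, hx₁, (hproj x₀).2]; ring
    have hk₂z : B k₂ z = 0 := by
      rw [hk₂, polar_sub_left hQ, hbl.add_left, hbl.smul_left, hbl.smul_left, hzz, hyz]; ring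
    have hk₂y : B k₂ y = 0 := by
      rw [hk₂, polar_sub_left hQ, hbl.add_left, hbl.smul_left, hbl.smul_left, hzy, polar_self hQ, hQy]; ring
    have hk₁₂ : B k₁ k₂ ≠ 0 := by
      rw [hk₂, polar_sub_right hQ, hbl.add_right, hbl.smul_right, hbl.smul_right, hz1, hy1, hx₁,
        polar_sub_right hQ, hbl.add_right, hbl.smul_right, hbl.smul_right, he1, hf1]
      simpa using hx₀
    by_cases hQ2 : Q k₂ ≠ 0
    · exact ⟨k₂, hk₂e, hk₂f, hk₂z, hk₂y, hQ2⟩
    push Not at hQ2
    refine ⟨k₁ + k₂, by rw [hbl.add_left, he1, hk₂e, add_zero], by rw [hbl.add_left, hf1, hk₂f, add_zero],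
      by rw [hbl.add_left, hz1, hk₂z, add_zero], by rw [hbl.add_left, hy1, hk₂y, add_zero], ?_⟩
    rw [quad_add (Q := Q), hQ1, hQ2, zero_add, zero_add]
    exact hk₁₂
  -- the point and the witnesses
  obtain ⟨u, hu⟩ : ∃ w', w' = e + f := ⟨_, rfl⟩
  obtain ⟨v, hv⟩ : ∃ w', w' = e - f := ⟨_, rfl⟩
  have hez : B e z = 0 := by rw [polar_symm]; exact hze
  have hfz : B f z = 0 := by rw [polar_symm]; exact hzf
  have hey : B e y = 0 := by rw [polar_symm]; exact hye
  have hfy : B f y = 0 := by rw [polar_symm]; exact hyf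
  have hvz : B v z = 0 := by rw [hv, polar_sub_left hQ, hez, hfz, sub_zero]
  have hvy : B v y = 0 := by rw [hv, polar_sub_left hQ, hey, hfy, sub_zero]
  have huz : B u z = 0 := by rw [hu, hbl.add_left, hez, hfz, add_zero]
  have huy : B u y = 0 := by rw [hu, hbl.add_left, hey, hfy, add_zero]
  have hQp : Q (v + z) = -1 := by
    rw [quad_add (Q := Q), hvz, hQz, hv, sub_eq_add_neg, ← neg_one_smul F f, quad_add (Q := Q), hQ.smul, hQe, hQf, hbl.smul_right, hef]
    ring
  have hQp0 : Q (v + z) ≠ 0 := by rw [hQp]; exact neg_ne_zero.mpr one_ne_zero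
  have hQy0 : Q y ≠ 0 := by rw [hQy]; exact one_ne_zero
  have hQs : Q (z + k) ≠ 0 := by rw [quad_add (Q := Q), hQz, polar_symm, hkz, zero_add, add_zero]; exact hQk
  have hQr : Q (e + y) ≠ 0 := by rw [quad_add (Q := Q), hQe, hey, zero_add, add_zero]; exact hQy0
  obtain ⟨R₁, hR₁, hR₁2, hR₁v⟩ := exists_refl hQ hQp0
  obtain ⟨R₂, hR₂, hR₂2, hR₂v⟩ := exists_refl hQ hQy0
  obtain ⟨R₃, hR₃, hR₃2, hR₃v⟩ := exists_refl hQ hQr
  obtain ⟨R₄, hR₄, hR₄2, hR₄v⟩ := exists_refl hQ hQs
  refine exists_between (K := subspaceStabilizer (Submodule.span F {u}) ⊓ omegaGL Q) (g := ⁅R₁, R₂⁆)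
    (x := ⁅R₃, R₄⁆) (fun g hg => ⟨?_, hg.2⟩) inf_le_right
    ⟨?_, commutator_mem_omegaGL hR₁ hR₂⟩ (fun h => ?_) (commutator_mem_omegaGL hR₃ hR₄) (fun h => ?_)
  · obtain ⟨g₀, -, rfl⟩ := hg.2
    have hgW : (g₀ : GL ι F).val *ᵥ u ∈ W := by
      rw [hu]
      exact mapsTo_of_mem_subspaceStabilizer hg.1 (W.add_mem (hUW he) hfW)
    have hgQ : Q ((g₀ : GL ι F).val *ᵥ u) = Q u := g₀.2 u 0
    refine mem_subspaceStabilizer_of_mapsTo fun x hx => ?_
    obtain ⟨a, rfl⟩ := Submodule.mem_span_singleton.mp hx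
    rw [Matrix.mulVec_smul]
    refine Submodule.smul_mem _ a ?_
    have hgu := hspan _ hgW
    obtain ⟨a', ha''⟩ : ∃ w', w' = B ((g₀ : GL ι F).val *ᵥ u) f := ⟨_, rfl⟩
    obtain ⟨b', hb''⟩ : ∃ w', w' = B ((g₀ : GL ι F).val *ᵥ u) e := ⟨_, rfl⟩
    have hgu' : (g₀ : GL ι F).val *ᵥ u = a' • e + b' • f := by rw [ha'', hb'']; exact hgu
    have hval : a' * b' = 1 := by
      have h := hgQ
      rw [hgu', quad_add (Q := Q), hQ.smul, hQ.smul, hQe, hQf,
        hbl.smul_left, hbl.smul_right, hef, hu, quad_add (Q := Q), hQe, hQf, hef] at h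
      linear_combination h
    have ha' : a' ≠ 0 := left_ne_zero_of_mul_eq_one hval
    have hb' : b' = a' := by
      rcases hpm a' ha' with h1 | h1 <;> rw [h1] at hval ⊢
      · linear_combination hval
      · linear_combination -hval
    show (g₀ : GL ι F).val *ᵥ u ∈ Submodule.span F {u}
    rw [show (g₀ : GL ι F).val *ᵥ u = a' • u by rw [hgu', hb', hu, smul_add]]
    exact Submodule.smul_mem _ _ (Submodule.mem_span_singleton_self u)
  · refine mem_subspaceStabilizer_of_mapsTo fun x hx => ?_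
    obtain ⟨a, rfl⟩ := Submodule.mem_span_singleton.mp hx
    have hup : B u (v + z) = 0 := by
      rw [hbl.add_right, huz, add_zero, hu, hv, hbl.add_left, polar_sub_right hQ, polar_sub_right hQ, hee, hef, hfe,
        hff]
      ring
    rw [Matrix.mulVec_smul, comm_refl_apply hQ hQp0 hQy0 hR₁2 hR₂2 hR₁v hR₂v huy, hup, zero_div, zero_mul, zero_smul,
      add_zero]
    exact hx
  · have h1 := mapsTo_of_mem_subspaceStabilizer h.1 (hUW he)
    have hev : B e (v + z) = -1 := by
      rw [hbl.add_right, hez, hv, polar_sub_right hQ, hee, hef]; ring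
    have hpy : B (v + z) y = 1 := by rw [hbl.add_left, hvy, hzy, zero_add]
    rw [comm_refl_apply hQ hQp0 hQy0 hR₁2 hR₂2 hR₁v hR₂v hey, hev, hpy, polar_symm y (v + z), hpy, hQp, hQy,
      neg_div_neg_eq, div_one, mul_one, one_smul] at h1
    have h2 : y - ((1 : F) / -1) • (v + z) ∈ W := by simpa using W.sub_mem h1 (hUW he)
    have h3 : y + z ∈ W := by
      have := W.sub_mem h2 (W.sub_mem (hUW he) hfW)
      rw [div_neg, div_one, neg_one_smul, sub_neg_eq_add, ← hv] at this
      rw [show y + z = y + (v + z) - v by abel]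
      exact this
    have h4 := hspan _ h3
    rw [hbl.add_left, hyf, hzf, hbl.add_left, hye, hze, add_zero, zero_smul, zero_smul, add_zero] at h4
    have h5 : Q (y + z) = 0 := by rw [h4, quad_zero hQ]
    rw [quad_add (Q := Q), hQy, hQz, hyz] at h5
    rcases hq23 with ⟨-, h2'⟩ | ⟨-, h3'⟩
    · -- in characteristic two use the polar form with `y`
      have h6 : B (y + z) y = 0 := by rw [h4, polar_symm]; exact hB0 y
      rw [hbl.add_left, polar_self hQ, hQy, hzy] at h6
      exact one_ne_zero (show (1 : F) = 0 by linear_combination h6 - h2')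
    · exact one_ne_zero (show (1 : F) = 0 by linear_combination -h5 + h3')
  · have h1 := mapsTo_of_mem_subspaceStabilizer h.1 (Submodule.mem_span_singleton_self u)
    have hus : B u (z + k) = 0 := by
      rw [hbl.add_right, huz, hu, hbl.add_left, polar_symm e k, hke, polar_symm f k, hkf]; ring
    have hur : B u (e + y) = 1 := by rw [hbl.add_right, huy, hu, hbl.add_left, hee, hfe]; ring
    have hrs : B (e + y) (z + k) = 1 := by
      rw [hbl.add_left, hbl.add_right, hbl.add_right, hez, polar_symm e k, hke, hyz, polar_symm y k, hky]; ring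
    have hQr1 : Q (e + y) = 1 := by rw [quad_add (Q := Q), hQe, hey, hQy]; ring
    rw [comm_refl_apply hQ hQr hQs hR₃2 hR₄2 hR₃v hR₄v hus, hur, hrs, polar_symm (z + k) (e + y), hrs, hQr1,
      div_one, one_mul, one_smul] at h1
    obtain ⟨δ, hδ⟩ := Submodule.mem_span_singleton.mp h1
    have h2 := congrArg (fun x => B x z) hδ
    rw [hbl.smul_left, huz, mul_zero, hbl.add_left, huz, zero_add, hbl.smul_left, polar_sub_left hQ, hbl.add_left,
      hzz, hkz, hbl.add_left, hez, hyz] at h2
    have : 1 / Q (z + k) = 0 := by linear_combination h2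
    exact one_div_ne_zero hQs this

end Cfsg.Agent.Lib.NonMax
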