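import Cfsg.Agent.Lib.NonMax.Basic
import Cfsg.Agent.Lib.Aschbacher.TensorForm
import Cfsg.Agent.Lib.Forms.Stab

/-!
Coordinates for the non-maximality arguments: block decompositions in a frame and elements seen in a frame.
-/

set_option autoImplicit false

namespace Cfsg.Agent.Lib.NonMax

open Cfsg Cfsg.Geo Matrix Cfsg.Agent.Lib.Aschbacher
open scoped Kronecker commutatorElement

variable {ι : Type} [Fintype ι] [DecidableEq ι] {F : Type*} [Field F]

/-- The matrix of `g` in the basis given by the columns of `B`. -/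
def coordsIn (B g : GL ι F) : Matrix ι ι F := ((B⁻¹ * g * B : GL ι F) : Matrix ι ι F)

lemma coordsIn_conj (B k : GL ι F) : coordsIn B (B * k * B⁻¹) = (k : Matrix ι ι F) := by
  rw [coordsIn]
  congr 1
  group

lemma mul_coordsIn (B g : GL ι F) :
    (B : Matrix ι ι F) * coordsIn B g = (g : Matrix ι ι F) * (B : Matrix ι ι F) := by
  rw [coordsIn, ← Units.val_mul, ← Units.val_mul]
  congr 1
  group

/-- The subspaces spanned by the columns of `B` in the fibres of `r`. -/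
def blocks {t : ℕ} (B : GL ι F) (r : ι → Fin t) (i : Fin t) : Submodule F (ι → F) :=
  (Forms.supported F (fun j => r j = i)).map (Matrix.toLin' (B : Matrix ι ι F))

lemma col_mem_blocks {t : ℕ} (B : GL ι F) (r : ι → Fin t) (b : ι) :
    (B : Matrix ι ι F) *ᵥ Pi.single b 1 ∈ blocks B r (r b) :=
  ⟨Pi.single b 1, Forms.single_mem_supported (p := fun j => r j = r b) rfl 1, Matrix.toLin'_apply _ _⟩

lemma coords_of_mem_blocks {t : ℕ} {B : GL ι F} {r : ι → Fin t} {i : Fin t} {v : ι → F} (hv : v ∈ blocks B r i)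
    {a : ι} (ha : r a ≠ i) : (((B⁻¹ : GL ι F) : Matrix ι ι F) *ᵥ v) a = 0 := by
  obtain ⟨x, hx, rfl⟩ := hv
  rw [Matrix.toLin'_apply, inv_mulVec_mulVec]
  exact hx a ha

theorem mem_blockStab {t : ℕ} (B : GL ι F) (r : ι → Fin t) {g : GL ι F} (σ : Equiv.Perm (Fin t))
    (h : ∀ a b, coordsIn B g a b ≠ 0 → r a = σ (r b)) : g ∈ decompositionStabilizer (blocks B r) := by
  have hle : ∀ i, (blocks B r i).map (Matrix.toLin' (g : Matrix ι ι F)) ≤ blocks B r (σ i) := by
    rintro i _ ⟨_, ⟨x, hx, rfl⟩, rfl⟩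
    refine ⟨coordsIn B g *ᵥ x, fun a ha => ?_, ?_⟩
    · rw [Matrix.mulVec, dotProduct]
      refine Finset.sum_eq_zero fun b _ => ?_
      by_cases hb : r b = i
      · by_cases h0 : coordsIn B g a b = 0
        · rw [h0, zero_mul]
        · exact absurd ((h a b h0).trans (congrArg σ hb)) ha
      · rw [hx b hb, mul_zero]
    · rw [Matrix.toLin'_apply, Matrix.toLin'_apply, Matrix.toLin'_apply, Matrix.mulVec_mulVec, mul_coordsIn,
        Matrix.mulVec_mulVec]
  refine ⟨σ, fun i => ?_⟩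
  refine Submodule.eq_of_le_of_finrank_le (hle i) ?_
  have hmap : ∀ (k : GL ι F) (W : Submodule F (ι → F)),
      Module.finrank F (W.map (Matrix.toLin' (k : Matrix ι ι F))) = Module.finrank F W := fun k W =>
    (Submodule.equivMapOfInjective _ (fun x y hxy => mulVec_left_inj (g := k) (by simpa [Matrix.toLin'_apply] using hxy)) W).finrank_eq.symm
  have hall : ∀ j, Module.finrank F (blocks B r j) ≤ Module.finrank F (blocks B r (σ j)) := fun j => by
    rw [← hmap g (blocks B r j)]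
    exact Submodule.finrank_mono (hle j)
  rw [hmap]
  have hsum := Equiv.sum_comp σ fun j => Module.finrank F (blocks B r j)
  by_contra hlt
  push Not at hlt
  exact absurd hsum.symm (Finset.sum_lt_sum (fun j _ => hall j) ⟨i, Finset.mem_univ i, hlt⟩).ne

theorem not_mem_blockStab {t : ℕ} {B : GL ι F} {r : ι → Fin t} {g : GL ι F} {a a' b : ι}
    (ha : coordsIn B g a b ≠ 0) (ha' : coordsIn B g a' b ≠ 0) (hr : r a ≠ r a') :
    g ∉ decompositionStabilizer (blocks B r) := by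
  intro h
  obtain ⟨j, hj⟩ := exists_member h (col_mem_blocks B r b)
  have hcol : ∀ c, r c ≠ j → coordsIn B g c b = 0 := fun c hc => by
    have h0 := coords_of_mem_blocks hj hc
    rw [Matrix.mulVec_mulVec, Matrix.mulVec_mulVec, Matrix.mulVec_single_one] at h0
    show ((B⁻¹ * g * B : GL ι F) : Matrix ι ι F) c b = 0
    rw [Units.val_mul, Units.val_mul]
    exact h0
  by_cases h1 : r a = j
  · exact ha' (hcol a' fun e => hr (h1.trans e.symm))
  · exact ha (hcol a h1)

/-- Elements preserving the form in coordinates preserve it. -/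
lemma preserves_conj {σ : F ≃+* F} {G B k : GL ι F} {Δ : Matrix ι ι F}
    (hB : (B : Matrix ι ι F)ᵀ * (G : Matrix ι ι F) * twist σ (B : Matrix ι ι F) = Δ)
    (hk : (k : Matrix ι ι F)ᵀ * Δ * twist σ (k : Matrix ι ι F) = Δ) :
    ((B * k * B⁻¹ : GL ι F) : Matrix ι ι F)ᵀ * (G : Matrix ι ι F) *
      twist σ ((B * k * B⁻¹ : GL ι F) : Matrix ι ι F) = (G : Matrix ι ι F) := by
  have h1 : ((B⁻¹ : GL ι F) : Matrix ι ι F)ᵀ * (B : Matrix ι ι F)ᵀ = 1 := by
    rw [← Matrix.transpose_mul, ← Units.val_mul, mul_inv_cancel, Units.val_one, Matrix.transpose_one]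
  have h2 : twist σ (B : Matrix ι ι F) * twist σ ((B⁻¹ : GL ι F) : Matrix ι ι F) = 1 := by
    rw [← twist_mul, ← Units.val_mul, mul_inv_cancel, Units.val_one, twist_one]
  have h3 : ((B⁻¹ : GL ι F) : Matrix ι ι F)ᵀ * Δ * twist σ ((B⁻¹ : GL ι F) : Matrix ι ι F) = (G : Matrix ι ι F) := by
    rw [← hB]
    calc _ = (((B⁻¹ : GL ι F) : Matrix ι ι F)ᵀ * (B : Matrix ι ι F)ᵀ) * (G : Matrix ι ι F) *
          (twist σ (B : Matrix ι ι F) * twist σ ((B⁻¹ : GL ι F) : Matrix ι ι F)) := by simp only [mul_assoc]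
      _ = _ := by rw [h1, h2, one_mul, mul_one]
  rw [Units.val_mul, Units.val_mul, Matrix.transpose_mul, Matrix.transpose_mul, twist_mul, twist_mul]
  calc _ = ((B⁻¹ : GL ι F) : Matrix ι ι F)ᵀ * ((k : Matrix ι ι F)ᵀ * ((B : Matrix ι ι F)ᵀ * (G : Matrix ι ι F) *
        twist σ (B : Matrix ι ι F)) * twist σ (k : Matrix ι ι F)) * twist σ ((B⁻¹ : GL ι F) : Matrix ι ι F) := by
        simp only [mul_assoc]
    _ = _ := by rw [hB, hk, h3]

lemma coords_preserves {σ : F ≃+* F} {G B g : GL ι F} {Δ : Matrix ι ι F}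
    (hB : (B : Matrix ι ι F)ᵀ * (G : Matrix ι ι F) * twist σ (B : Matrix ι ι F) = Δ)
    (hg : (g : Matrix ι ι F)ᵀ * (G : Matrix ι ι F) * twist σ (g : Matrix ι ι F) = (G : Matrix ι ι F)) :
    (coordsIn B g)ᵀ * Δ * twist σ (coordsIn B g) = Δ := by
  rw [← hB]
  calc _ = ((B : Matrix ι ι F) * coordsIn B g)ᵀ * (G : Matrix ι ι F) *
        twist σ ((B : Matrix ι ι F) * coordsIn B g) := by
        rw [Matrix.transpose_mul, twist_mul]; simp only [mul_assoc]
    _ = (B : Matrix ι ι F)ᵀ * ((g : Matrix ι ι F)ᵀ * (G : Matrix ι ι F) * twist σ (g : Matrix ι ι F)) *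
        twist σ (B : Matrix ι ι F) := by
        rw [mul_coordsIn, Matrix.transpose_mul, twist_mul]; simp only [mul_assoc]
    _ = _ := by rw [hg]

/-! ### Tensor frames -/

variable {n₁ n₂ : ℕ}

/-- The change of frame given by a basis of each factor. -/
def kronUnit (β : GL (Fin n₁) F) (γ : GL (Fin n₂) F) : GL (Fin n₁ × Fin n₂) F where
  val := (β : Matrix (Fin n₁) (Fin n₁) F) ⊗ₖ (γ : Matrix (Fin n₂) (Fin n₂) F)
  inv := ((β⁻¹ : GL (Fin n₁) F) : Matrix (Fin n₁) (Fin n₁) F) ⊗ₖ ((γ⁻¹ : GL (Fin n₂) F) : Matrix (Fin n₂) (Fin n₂) F)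
  val_inv := by rw [← Matrix.mul_kronecker_mul, Units.mul_inv, Units.mul_inv, Matrix.one_kronecker_one]
  inv_val := by rw [← Matrix.mul_kronecker_mul, Units.inv_mul, Units.inv_mul, Matrix.one_kronecker_one]

/-- The frame `P` adapted to bases of the factors. -/
def tensorFrame (e : ι ≃ Fin n₁ × Fin n₂) (P : GL ι F) (β : GL (Fin n₁) F) (γ : GL (Fin n₂) F) : GL ι F :=
  P * glReindex e.symm (kronUnit β γ)

lemma coe_tensorFrame (e : ι ≃ Fin n₁ × Fin n₂) (P : GL ι F) (β : GL (Fin n₁) F) (γ : GL (Fin n₂) F) :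
    (tensorFrame e P β γ : Matrix ι ι F) = (P : Matrix ι ι F) *
      ((β : Matrix (Fin n₁) (Fin n₁) F) ⊗ₖ (γ : Matrix (Fin n₂) (Fin n₂) F)).submatrix e e := by
  simp [tensorFrame, kronUnit, glReindex, Matrix.reindex_apply]

theorem mem_tensor_iff (e : ι ≃ Fin n₁ × Fin n₂) (P : GL ι F) (β : GL (Fin n₁) F) (γ : GL (Fin n₂) F) (g : GL ι F) :
    g ∈ tensorProductSubgroup n₁ n₂ e P ↔ ∃ (a : GL (Fin n₁) F) (b : GL (Fin n₂) F),
      coordsIn (tensorFrame e P β γ) g =
        ((a : Matrix (Fin n₁) (Fin n₁) F) ⊗ₖ (b : Matrix (Fin n₂) (Fin n₂) F)).submatrix e e := by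
  constructor
  · rintro ⟨k', ⟨k, ⟨a, b, hab⟩, rfl⟩, rfl⟩
    refine ⟨β⁻¹ * a * β, γ⁻¹ * b * γ, ?_⟩
    have hk : k = kronUnit a b := Units.ext hab
    have hmul : ∀ (x x' : GL (Fin n₁) F) (y y' : GL (Fin n₂) F),
        kronUnit x y * kronUnit x' y' = kronUnit (x * x') (y * y') := fun x x' y y' =>
      Units.ext (by simp [kronUnit, Matrix.mul_kronecker_mul])
    have hinv : (kronUnit β γ)⁻¹ = kronUnit β⁻¹ γ⁻¹ := Units.ext rfl
    have e0 : (tensorFrame e P β γ)⁻¹ * ((MulAut.conj P).toMonoidHom ((glReindex e.symm).toMonoidHom k)) *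
        tensorFrame e P β γ = glReindex e.symm (kronUnit (β⁻¹ * a * β) (γ⁻¹ * b * γ)) := by
      rw [← hmul, ← hmul, ← hinv, map_mul, map_mul, map_inv, ← hk]
      simp only [tensorFrame, MulEquiv.coe_toMonoidHom, MulAut.conj_apply]
      group
    rw [coordsIn, e0]
    simp [kronUnit, glReindex, Matrix.reindex_apply]
  · rintro ⟨a, b, hab⟩
    refine ⟨glReindex e.symm (kronUnit (β * a * β⁻¹) (γ * b * γ⁻¹)), ⟨_, ⟨_, _, rfl⟩, rfl⟩, ?_⟩
    have hmul : ∀ (x x' : GL (Fin n₁) F) (y y' : GL (Fin n₂) F),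
        kronUnit x y * kronUnit x' y' = kronUnit (x * x') (y * y') := fun x x' y y' =>
      Units.ext (by simp [kronUnit, Matrix.mul_kronecker_mul])
    have hinv : (kronUnit β γ)⁻¹ = kronUnit β⁻¹ γ⁻¹ := Units.ext rfl
    have e1 : (tensorFrame e P β γ)⁻¹ * g * tensorFrame e P β γ = glReindex e.symm (kronUnit a b) := by
      apply Units.ext
      show coordsIn (tensorFrame e P β γ) g = _
      rw [hab]
      simp [kronUnit, glReindex, Matrix.reindex_apply]
    show P * glReindex e.symm (kronUnit (β * a * β⁻¹) (γ * b * γ⁻¹)) * P⁻¹ = g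
    rw [← hmul, ← hmul, ← hinv, map_mul, map_mul, map_inv, ← e1]
    simp only [tensorFrame]
    group

/-- A block matrix whose blocks are not proportional is no Kronecker product. -/
theorem not_tensor {e : ι ≃ Fin n₁ × Fin n₂} {P : GL ι F} {β : GL (Fin n₁) F} {γ : GL (Fin n₂) F} {g : GL ι F}
    {i₀ i₁ : Fin n₁} {j₀ j l : Fin n₂}
    (h0 : ∀ u v, coordsIn (tensorFrame e P β γ) g (e.symm (i₀, u)) (e.symm (i₀, v)) = if u = v then 1 else 0)
    (h1 : coordsIn (tensorFrame e P β γ) g (e.symm (i₁, j)) (e.symm (i₁, l)) ≠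
      if j = l then coordsIn (tensorFrame e P β γ) g (e.symm (i₁, j₀)) (e.symm (i₁, j₀)) else 0) :
    g ∉ tensorProductSubgroup n₁ n₂ e P := by
  intro hg
  obtain ⟨a, b, hab⟩ := (mem_tensor_iff e P β γ g).mp hg
  have hb : ∀ u v, (a : Matrix (Fin n₁) (Fin n₁) F) i₀ i₀ * (b : Matrix (Fin n₂) (Fin n₂) F) u v =
      if u = v then 1 else 0 := fun u v => by
    rw [← h0 u v, hab]
    simp
  have ha : (a : Matrix (Fin n₁) (Fin n₁) F) i₀ i₀ ≠ 0 := fun h => by simpa [h] using hb j₀ j₀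
  apply h1
  rw [hab]
  simp only [Matrix.submatrix_apply, Equiv.apply_symm_apply, kroneckerMap_apply]
  by_cases hjl : j = l
  · subst hjl
    rw [if_pos rfl]
    congr 1
    exact mul_left_cancel₀ ha (by rw [hb, hb, if_pos rfl, if_pos rfl])
  · rw [if_neg hjl]
    have h2 := hb j l
    rw [if_neg hjl] at h2
    rw [(mul_eq_zero.mp h2).resolve_left ha, mul_zero]

/-- A monomial first factor permutes the blocks. -/
theorem tensor_mem_blockStab {e : ι ≃ Fin n₁ × Fin n₂} {P : GL ι F} {β : GL (Fin n₁) F} {γ : GL (Fin n₂) F}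
    {g : GL ι F} {a : Matrix (Fin n₁) (Fin n₁) F} {b : Matrix (Fin n₂) (Fin n₂) F}
    (hg : coordsIn (tensorFrame e P β γ) g = (a ⊗ₖ b).submatrix e e) (σ : Equiv.Perm (Fin n₁))
    (ha : ∀ i j, a i j ≠ 0 → i = σ j) :
    g ∈ decompositionStabilizer (blocks (tensorFrame e P β γ) (fun x => (e x).1)) := by
  refine mem_blockStab _ _ σ fun x y hxy => ha _ _ fun h0 => hxy ?_
  rw [hg]
  simp [h0]

/-- A monomial matrix. -/
lemma exists_perm_of_monomial {n : ℕ} (a : GL (Fin n) F)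
    (h : ∀ j, ∃! i, (a : Matrix (Fin n) (Fin n) F) i j ≠ 0) :
    ∃ σ : Equiv.Perm (Fin n), ∀ i j, (a : Matrix (Fin n) (Fin n) F) i j ≠ 0 → i = σ j := by
  choose f hf huniq using h
  have hsurj : Function.Surjective f := by
    intro i
    by_contra hi
    push Not at hi
    have hdet : (a : Matrix (Fin n) (Fin n) F).det = 0 := Matrix.det_eq_zero_of_row_eq_zero i fun j => by
      by_contra h0
      exact hi j (huniq j i h0).symm
    exact ((Matrix.isUnit_iff_isUnit_det _).mp a.isUnit).ne_zero hdet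
  exact ⟨Equiv.ofBijective f ⟨(Finite.injective_iff_surjective).mpr hsurj, hsurj⟩, fun i j hij => huniq j i hij⟩

end Cfsg.Agent.Lib.NonMax
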