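import Cfsg.Agent.Lib.NonMax.OrthTools
import Cfsg.Agent.Lib.NonMax.Frame
import Cfsg.Agent.Lib.Aschbacher.FormBasis

/-!
Over three elements the orthogonal groups of degree at most three that occur here are monomial, so the stabilisers
built from them are not maximal.
-/

set_option autoImplicit false

namespace Cfsg.Agent.Lib.NonMax

open Cfsg Cfsg.Geo Matrix Cfsg.Agent.Lib.Aschbacher
open scoped Kronecker commutatorElement

variable {ι : Type} [Fintype ι] [DecidableEq ι] {F : Type*} [Field F] [Fintype F] {Q : (ι → F) → F}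

local notation "B" => QuadraticMap.polar Q

omit [Fintype F] in
/-- The coordinates of a column from the image of a basis vector. -/
lemma coordsIn_of_image {P g : GL ι F} {b : ι} {x : ι → F}
    (h : (g : Matrix ι ι F) *ᵥ ((P : Matrix ι ι F) *ᵥ Pi.single b 1) = (P : Matrix ι ι F) *ᵥ x) (a : ι) :
    coordsIn P g a b = x a := by
  have h' := congrArg (fun y => ((P⁻¹ : GL ι F) : Matrix ι ι F) *ᵥ y) h
  simp only [inv_mulVec_mulVec] at h'
  rw [Matrix.mulVec_mulVec, Matrix.mulVec_mulVec, Matrix.mulVec_single_one] at h'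
  rw [← h']
  show ((P⁻¹ * g * P : GL ι F) : Matrix ι ι F) a b = _
  rw [Units.val_mul, Units.val_mul]
  rfl

lemma three_eq_zero (hq : Fintype.card F = 3) : (3 : F) = 0 := by
  have h := Nat.cast_card_eq_zero F
  rw [hq] at h
  exact_mod_cast h

lemma two_ne_zero_of_three (hq : Fintype.card F = 3) : (2 : F) ≠ 0 := fun h =>
  one_ne_zero (show (1 : F) = 0 by linear_combination three_eq_zero hq - h)

lemma sq_eq_one_of_three (hq : Fintype.card F = 3) {x : F} (hx : x ≠ 0) : x * x = 1 := by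
  have h := FiniteField.pow_card_sub_one_eq_one x hx
  rw [hq] at h
  rw [← h, ← pow_two]

/-- At most three squares summing to one in the field with three elements. -/
lemma existsUnique_of_squares (hq : Fintype.card F = 3) {k : ℕ} (hk : k ≤ 3) {x : Fin k → F}
    (hx : ∑ u, x u * x u = 1) : ∃! u, x u ≠ 0 := by
  classical
  set S := Finset.univ.filter fun u => x u ≠ 0 with hS
  have hsum : ∑ u, x u * x u = (S.card : F) := by
    rw [Finset.cast_card, Finset.sum_filter]
    refine Finset.sum_congr rfl fun u _ => ?_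
    by_cases hu : x u = 0
    · simp [hu]
    · rw [sq_eq_one_of_three hq hu, if_pos hu]
  have hle : S.card ≤ 3 := (Finset.card_le_univ _).trans (by simpa using hk)
  have h1 : S.card = 1 := by
    rw [hsum] at hx
    have h3 := three_eq_zero (F := F) hq
    rcases (by omega : S.card = 0 ∨ S.card = 1 ∨ S.card = 2 ∨ S.card = 3) with e | e | e | e
    · rw [e] at hx; exact absurd (hx.symm.trans Nat.cast_zero) one_ne_zero
    · exact e
    · rw [e] at hx; push_cast at hx
      exact absurd (show (1 : F) = 0 by linear_combination hx) one_ne_zero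
    · rw [e] at hx; push_cast at hx
      exact absurd (show (1 : F) = 0 by linear_combination -hx + h3) one_ne_zero
  obtain ⟨u, hu⟩ := Finset.card_eq_one.mp h1
  have hmem : ∀ w, x w ≠ 0 ↔ w = u := fun w => by
    have := Finset.ext_iff.mp hu w
    simpa [hS] using this
  exact ⟨u, (hmem u).mpr rfl, fun w hw => (hmem w).mp hw⟩

omit [Fintype F] in
/-- Isometries preserve the Gram matrix of the polar form. -/
lemma preserves_of_isometry {G : GL ι F} (hG : B = formM (RingEquiv.refl F) (G : Matrix ι ι F)) {g : GL ι F}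
    (hg : g ∈ isometryGroup F Q) :
    (g : Matrix ι ι F)ᵀ * (G : Matrix ι ι F) * twist (RingEquiv.refl F) (g : Matrix ι ι F) =
      (G : Matrix ι ι F) := by
  refine formM_injective (RingEquiv.refl F) fun u v => ?_
  rw [← formM_mulVec, ← hG]
  have h : ∀ w, Q ((g : Matrix ι ι F) *ᵥ w) = Q w := fun w => hg w 0
  simp only [QuadraticMap.polar, ← Matrix.mulVec_add, h]

omit [Fintype F] in
lemma mem_isometry_of_omega {g : GL ι F} (hg : g ∈ omegaGL Q) : g ∈ isometryGroup F Q :=
  Subgroup.map_subtype_le _ hg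


lemma exists_swap {v : ι → (ι → F)} (hQ : IsNondegenerateQuadraticForm Q)
    (hv : ∀ a b, a ≠ b → QuadraticMap.polar Q (v a) (v b) = 0) (hd : ∀ a, Q (v a) ≠ 0) (h2 : (2 : F) ≠ 0) {a b : ι} (hab : a ≠ b) (he : Q (v a) = Q (v b)) :
    ∃ g : GL ι F, g ∈ isometryGroup F Q ∧ g * g = 1 ∧ (g : Matrix ι ι F) *ᵥ v a = v b ∧
      (g : Matrix ι ι F) *ᵥ v b = v a ∧ ∀ x, x ≠ a → x ≠ b → (g : Matrix ι ι F) *ᵥ v x = v x := by
  have hs : Q (v a - v b) = 2 * Q (v a) := by
    rw [sub_eq_add_neg, ← neg_one_smul F (v b), quad_add (Q := Q), hQ.smul, hQ.polar_bilinear.smul_right, hv a b hab,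
      ← he]
    ring
  have hs0 : Q (v a - v b) ≠ 0 := by rw [hs]; exact mul_ne_zero h2 (hd a)
  obtain ⟨g, hg, hgg, hgv⟩ := exists_refl hQ hs0
  have h1 : (g : Matrix ι ι F) *ᵥ v a = v b := by
    rw [hgv, polar_sub_right hQ, polar_self hQ, hv a b hab, sub_zero, hs, div_self (mul_ne_zero h2 (hd a)),
      one_smul, sub_sub_cancel]
  refine ⟨g, hg, hgg, h1, ?_, fun x hxa hxb => refl_fix hQ hgv ?_⟩
  · rw [← h1, Matrix.mulVec_mulVec, ← Units.val_mul, hgg, Units.val_one, Matrix.one_mulVec]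
  · rw [polar_sub_right hQ, hv x a hxa, hv x b hxb, sub_zero]

/-- A three-cycle in `Ω`. -/
lemma exists_cycle {v : ι → (ι → F)} (hQ : IsNondegenerateQuadraticForm Q)
    (hv : ∀ a b, a ≠ b → QuadraticMap.polar Q (v a) (v b) = 0) (hd : ∀ a, Q (v a) ≠ 0) (h2 : (2 : F) ≠ 0) {a b c : ι} (hab : a ≠ b) (hac : a ≠ c) (hbc : b ≠ c)
    (he : Q (v a) = Q (v b)) (he' : Q (v b) = Q (v c)) :
    ∃ g : GL ι F, g ∈ omegaGL Q ∧ (g : Matrix ι ι F) *ᵥ v a = v c ∧
      (g : Matrix ι ι F) *ᵥ v b = v a ∧ (g : Matrix ι ι F) *ᵥ v c = v b ∧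
      ∀ x, x ≠ a → x ≠ b → x ≠ c → (g : Matrix ι ι F) *ᵥ v x = v x := by
  obtain ⟨g, hg, hgg, hga, hgb, hgx⟩ := exists_swap hQ hv hd h2 hab he
  obtain ⟨h, hh, hhh, hhb, hhc, hhx⟩ := exists_swap hQ hv hd h2 hbc he'
  refine ⟨⁅g, h⁆, commutator_mem_omegaGL hg hh, ?_, ?_, ?_, fun x hxa hxb hxc => ?_⟩ <;>
    rw [comm_refl_eq hgg hhh, Units.val_mul, Units.val_mul, Units.val_mul, ← Matrix.mulVec_mulVec,
      ← Matrix.mulVec_mulVec, ← Matrix.mulVec_mulVec]
  · rw [hhx a hab hac, hga, hhb, hgx c hac.symm hbc.symm]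
  · rw [hhb, hgx c hac.symm hbc.symm, hhc, hgb]
  · rw [hhc, hgb, hhx a hab hac, hga]
  · rw [hhx x hxb hxc, hgx x hxa hxb, hhx x hxb hxc, hgx x hxa hxb]

/-- An element of `Ω` mixing four basis vectors. -/
lemma exists_mixer {v : ι → (ι → F)} (hQ : IsNondegenerateQuadraticForm Q)
    (hv : ∀ a b, a ≠ b → QuadraticMap.polar Q (v a) (v b) = 0) (hd : ∀ a, Q (v a) ≠ 0) (hq : Fintype.card F = 3) {a b c d e : ι} (hab : a ≠ b) (hac : a ≠ c) (had : a ≠ d)
    (hbc : b ≠ c) (hbd : b ≠ d) (hcd : c ≠ d) (hae : a ≠ e) (hbe : b ≠ e) (hce : c ≠ e) (hde : d ≠ e)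
    (h1 : Q (v b) = Q (v a)) (h2' : Q (v c) = Q (v a)) (h3' : Q (v d) = Q (v a)) (h4 : Q (v e) = Q (v a)) :
    ∃ g : GL ι F, g ∈ omegaGL Q ∧ (g : Matrix ι ι F) *ᵥ v d = v a + v b + v c + (2 : F) • v d := by
  have h2 := two_ne_zero_of_three (F := F) hq
  have h3 := three_eq_zero (F := F) hq
  have hbl := hQ.polar_bilinear
  set w := v a + v b + v c + v d with hw
  have hQw : Q w = Q (v a) := by
    rw [hw, quad_add (Q := Q), quad_add (Q := Q), quad_add (Q := Q), hbl.add_left, hbl.add_left, hbl.add_left,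
      hv a b hab, hv a c hac, hv b c hbc, hv a d had, hv b d hbd, hv c d hcd, h1, h2', h3']
    linear_combination Q (v a) * h3
  obtain ⟨g, hg, hgg, hgv⟩ := exists_refl hQ (w := w) (by rw [hQw]; exact hd a)
  obtain ⟨h, hh, hhh, hhd, hhe, -⟩ := exists_swap hQ hv hd h2 hde (h3'.trans h4.symm)
  have hew : B (v e) w = 0 := by
    rw [hw, hbl.add_right, hbl.add_right, hbl.add_right, hv e a hae.symm, hv e b hbe.symm, hv e c hce.symm,
      hv e d hde.symm]
    ring
  have hdw : B (v d) w = 2 * Q (v a) := by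
    rw [hw, hbl.add_right, hbl.add_right, hbl.add_right, hv d a had.symm, hv d b hbd.symm, hv d c hcd.symm,
      polar_self hQ, h3']
    ring
  refine ⟨⁅g, h⁆, commutator_mem_omegaGL hg hh, ?_⟩
  rw [comm_refl_eq hgg hhh, Units.val_mul, Units.val_mul, Units.val_mul, ← Matrix.mulVec_mulVec,
    ← Matrix.mulVec_mulVec, ← Matrix.mulVec_mulVec, hhd, refl_fix hQ hgv hew, hhe, hgv, hdw, hQw,
    mul_div_assoc, div_self (hd a), mul_one, hw]
  match_scalars <;> first | linear_combination -h3 | linear_combination h3 | ring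


/-- An orthogonal decomposition with members of degree two or three over three elements. -/
theorem exists_between_orth_decomposition (hQ : IsNondegenerateQuadraticForm Q) (hq : Fintype.card F = 3) {t k : ℕ}
    (hk : k = 2 ∨ k = 3) (ht : 4 ≤ t) (D : Fin t → Submodule F (ι → F)) (hD : IsOrthogonalMDecomposition Q k D)
    (hk2 : k = 2 → ∀ i, ¬ IsPlusTypeOn Q (D i)) :
    ∃ K : Subgroup (GL ι F), decompositionStabilizer D ⊓ omegaGL Q < K ∧ K < omegaGL Q := by
  classical
  have h2 := two_ne_zero_of_three (F := F) hq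
  have h3 := three_eq_zero (F := F) hq
  have hbl := hQ.polar_bilinear
  have hcard : Fintype.card ι = t * k := card_members hD.decomp.decomp
  let i₀ : Fin t := ⟨0, by omega⟩
  obtain ⟨v₀, lam, hlam, hv₀mem, hv₀⟩ : ∃ (v₀ : Fin k → (ι → F)) (lam : F), lam ≠ 0 ∧ (∀ u, v₀ u ∈ D i₀) ∧
      ∀ a b, B (v₀ a) (v₀ b) = if a = b then 2 * lam else 0 := by
    rcases hk with rfl | rfl
    · obtain ⟨a, ha, ha0⟩ := (D i₀).ne_bot_iff.mp fun h => by
        have := hD.decomp.decomp.finrank_eq i₀
        rw [h, finrank_bot] at this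
        omega
      have haniso : ∀ x ∈ D i₀, x ≠ 0 → Q x ≠ 0 := fun x hx hx0 hQx => hk2 rfl i₀
        ⟨Submodule.span F {x}, (Submodule.span_singleton_le_iff_mem _ _).mpr hx, fun y hy => by
          obtain ⟨r, rfl⟩ := Submodule.mem_span_singleton.mp hy
          rw [hQ.smul, hQx, mul_zero],
          by rw [finrank_span_singleton hx0, hD.decomp.decomp.finrank_eq i₀]⟩
      obtain ⟨x, hx, hxa⟩ : ∃ x ∈ D i₀, x ∉ Submodule.span F {a} := by
        by_contra h
        push Not at h
        have := Submodule.finrank_mono (R := F) (s := D i₀) (t := Submodule.span F {a}) h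
        rw [hD.decomp.decomp.finrank_eq i₀, finrank_span_singleton ha0] at this
        omega
      have haa : B a a ≠ 0 := by rw [polar_self hQ]; exact mul_ne_zero h2 (haniso a ha ha0)
      obtain ⟨b, hb⟩ : ∃ b, b = x - (B x a / B a a) • a := ⟨_, rfl⟩
      have hbmem : b ∈ D i₀ := hb ▸ (D i₀).sub_mem hx ((D i₀).smul_mem _ ha)
      have hba : B b a = 0 := by rw [hb, polar_sub_left hQ, hbl.smul_left, div_mul_cancel₀ _ haa, sub_self]
      have hb0 : b ≠ 0 := fun h => hxa (by
        rw [hb, sub_eq_zero] at h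
        rw [h]
        exact Submodule.smul_mem _ _ (Submodule.mem_span_singleton_self a))
      have hval : Q b = Q a := by
        by_contra hne
        have hsum : Q a + Q b = 0 := by
          rcases mul_self_eq_one_iff.mp (sq_eq_one_of_three hq (haniso a ha ha0)) with h | h <;>
            rcases mul_self_eq_one_iff.mp (sq_eq_one_of_three hq (haniso b hbmem hb0)) with h' | h' <;>
            first | exact absurd (h'.trans h.symm) hne | (rw [h, h']; ring)
        refine haniso (a + b) ((D i₀).add_mem ha hbmem) (fun h => hxa ?_) ?_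
        · rw [show x = b + (B x a / B a a) • a by rw [hb, sub_add_cancel], eq_neg_of_add_eq_zero_right h]
          exact Submodule.add_mem _ (Submodule.neg_mem _ (Submodule.mem_span_singleton_self a))
            (Submodule.smul_mem _ _ (Submodule.mem_span_singleton_self a))
        · rw [quad_add (Q := Q), polar_symm, hba, add_zero]
          exact hsum
      refine ⟨![a, b], Q a, haniso a ha ha0, fun u => by fin_cases u <;> assumption, fun p q => ?_⟩
      fin_cases p <;> fin_cases q <;> simp [polar_self hQ, hba, polar_symm a b, hval]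
    · let bb := Module.finBasisOfFinrankEq F (D i₀) (hD.decomp.decomp.finrank_eq i₀)
      let emb : (Fin 3 → F) →ₗ[F] (ι → F) := (D i₀).subtype ∘ₗ bb.equivFun.symm.toLinearMap
      let f₀ : (Fin 3 → F) → (Fin 3 → F) → F := fun x y => B (emb x) (emb y)
      obtain ⟨A, hA, -⟩ := exists_gram_bilinear (f := f₀)
        ⟨fun x y z => by simp only [f₀, map_add]; exact hbl.add_left ..,
          fun r x z => by simp only [f₀, map_smul]; exact hbl.smul_left ..,
          fun z x y => by simp only [f₀, map_add]; exact hbl.add_right ..,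
          fun r z x => by simp only [f₀, map_smul]; exact hbl.smul_right ..⟩
        (by
          intro x hx0
          have hx1 : emb x ≠ 0 := fun h0 => hx0 (bb.equivFun.symm.injective (Subtype.ext (by simpa [emb] using h0)))
          obtain ⟨⟨y, hy, hy'⟩, ⟨z, hz, hz'⟩⟩ := hD.decomp.nondegenerate i₀ (emb x) (Subtype.mem _) hx1
          have hsec : ∀ w : D i₀, emb (bb.equivFun w) = (w : ι → F) := fun w =>
            congrArg Subtype.val (bb.equivFun.symm_apply_apply w)
          exact ⟨⟨bb.equivFun ⟨y, hy⟩, by simp only [f₀]; rw [hsec]; exact hy'⟩,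
            ⟨bb.equivFun ⟨z, hz⟩, by simp only [f₀]; rw [hsec]; exact hz'⟩⟩)
      obtain ⟨b, u, hu, hb⟩ := exists_congr_scalar (F := F) (by rw [hq]; decide) (d := 3) (by decide) A (by
        ext i j
        rw [Matrix.transpose_apply, ← formM_single (RingEquiv.refl F) (A : Matrix _ _ F) i j,
          ← formM_single (RingEquiv.refl F) (A : Matrix _ _ F) j i, ← hA]
        exact polar_symm _ _)
      refine ⟨fun p => emb ((b : Matrix (Fin 3) (Fin 3) F) *ᵥ Pi.single p 1), u / 2, div_ne_zero hu h2,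
        fun p => Subtype.mem _, fun p q => ?_⟩
      show f₀ _ _ = _
      rw [hA, formM_mulVec, twist_refl, hb, formM_single, Matrix.smul_apply, Matrix.one_apply, smul_eq_mul,
        mul_div_cancel₀ _ h2]
      split_ifs <;> simp
  choose iso hiso using fun i => hD.isometric i₀ i
  let v : Fin t → Fin k → (ι → F) := fun i u => (iso i ⟨v₀ u, hv₀mem u⟩ : D i)
  have hvmem : ∀ i u, v i u ∈ D i := fun i u => Subtype.mem _
  have hBv : ∀ i a b, B (v i a) (v i b) = if a = b then 2 * lam else 0 := by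
    intro i a b
    rw [← hv₀ a b]
    have key : ∀ x y : D i₀, B (iso i x : ι → F) (iso i y : ι → F) = B (x : ι → F) (y : ι → F) := fun x y => by
      simp only [QuadraticMap.polar, ← Submodule.coe_add, ← map_add, hiso]
    exact key _ _
  let idx : ι ≃ Fin t × Fin k := Fintype.equivOfCardEq (by simp [hcard])
  let V : ι → (ι → F) := fun a => v (idx a).1 (idx a).2
  have hV : ∀ a b, B (V a) (V b) = if a = b then 2 * lam else 0 := by
    intro a b
    by_cases h : (idx a).1 = (idx b).1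
    · simp only [V]
      rw [← h, hBv]
      exact if_congr ⟨fun h' => idx.injective (Prod.ext h h'), fun h' => by rw [h']⟩ rfl rfl
    · rw [if_neg (fun e0 => h (by rw [e0]))]
      exact hD.decomp.orthogonal _ _ h _ (hvmem _ (idx a).2) _ (hvmem _ (idx b).2)
  have hQV : ∀ a, Q (V a) = lam := fun a => mul_left_cancel₀ h2 (by rw [← polar_self hQ, hV, if_pos rfl])
  have hVo : ∀ a b, a ≠ b → B (V a) (V b) = 0 := fun a b h => by rw [hV, if_neg h]
  have hVd : ∀ a, Q (V a) ≠ 0 := fun a => by rw [hQV]; exact hlam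
  obtain ⟨G, hG, -⟩ := exists_gram_bilinear hbl hQ.nondegenerate
  obtain ⟨P, hcol, hP⟩ := gram_of_columns (σ := RingEquiv.refl F) (G := G) V (fun _ => 2 * lam)
    (fun a b => by rw [← hG]; exact hV a b) (fun _ => mul_ne_zero h2 hlam)
  have hsupp : ∀ i, ∀ x ∈ D i, ∀ a, (idx a).1 ≠ i → (((P⁻¹ : GL ι F) : Matrix ι ι F) *ᵥ x) a = 0 := by
    intro i x hx a ha
    obtain ⟨y, hy⟩ : ∃ y, y = ((P⁻¹ : GL ι F) : Matrix ι ι F) *ᵥ x := ⟨_, rfl⟩
    have hxy : x = (P : Matrix ι ι F) *ᵥ y := by rw [hy, mulVec_inv_mulVec]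
    have h0 : B x (V a) = 0 := hD.decomp.orthogonal _ _ (Ne.symm ha) _ hx _ (hvmem _ (idx a).2)
    rw [← hy]
    have h1 : B x (V a) = y a * (2 * lam) := by
      rw [← hcol, hxy, hG, formM_mulVec, hP, formM]
      simp [Matrix.mulVec_diagonal, dotProduct, Pi.single_apply]
    exact (mul_eq_zero.mp (h1.symm.trans h0)).resolve_right (mul_ne_zero h2 hlam)
  have hk0 : 0 < k := by omega
  let z : Fin k := ⟨0, hk0⟩
  let o : Fin k := ⟨1, by omega⟩
  have hzo : z ≠ o := by simp [z, o]
  let ix : Fin t → Fin k → ι := fun i u => idx.symm (i, u)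
  have hix : ∀ i u j w, ix i u = ix j w ↔ i = j ∧ u = w := fun i u j w => by
    simp [ix, Prod.ext_iff]
  let i₁ : Fin t := ⟨1, by omega⟩
  let i₂ : Fin t := ⟨2, by omega⟩
  let i₃ : Fin t := ⟨3, by omega⟩
  obtain ⟨g, hg, hga, hgb, hgc, hgx⟩ := exists_cycle hQ hVo hVd h2 (a := ix i₀ z) (b := ix i₁ z) (c := ix i₂ z)
    (by simp [hix, i₀, i₁]) (by simp [hix, i₀, i₂]) (by simp [hix, i₁, i₂]) (by rw [hQV, hQV]) (by rw [hQV, hQV])
  obtain ⟨x, hx, hxd⟩ := exists_mixer hQ hVo hVd hq (a := ix i₀ z) (b := ix i₁ z) (c := ix i₂ z) (d := ix i₃ z)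
    (e := ix i₀ o) (by simp [hix, i₀, i₁]) (by simp [hix, i₀, i₂]) (by simp [hix, i₀, i₃]) (by simp [hix, i₁, i₂])
    (by simp [hix, i₁, i₃]) (by simp [hix, i₂, i₃]) (by simp [hix, hzo]) (by simp [hix, i₁, i₀])
    (by simp [hix, i₂, i₀]) (by simp [hix, i₃, i₀]) (by rw [hQV, hQV]) (by rw [hQV, hQV]) (by rw [hQV, hQV])
    (by rw [hQV, hQV])
  refine exists_between (K := decompositionStabilizer (blocks P (fun a => Fintype.equivFin ι a)) ⊓ omegaGL Q)
    (fun y hy => ⟨?_, hy.2⟩) inf_le_right (g := g) ⟨?_, hg⟩ ?_ hx (fun h => ?_)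
  · have hX := coords_preserves (σ := RingEquiv.refl F) (g := y) hP
      (preserves_of_isometry hG (mem_isometry_of_omega hy.2))
    have hcolj : ∀ j, ∃! a, coordsIn P y a j ≠ 0 := by
      intro j
      obtain ⟨j₁, hj₁⟩ := exists_member hy.1 (hvmem (idx j).1 (idx j).2)
      have hzero : ∀ a, (idx a).1 ≠ j₁ → coordsIn P y a j = 0 := by
        intro a ha
        rw [coordsIn_of_image (x := ((P⁻¹ : GL ι F) : Matrix ι ι F) *ᵥ ((y : Matrix ι ι F) *ᵥ V j)) (by
          rw [mulVec_inv_mulVec, hcol]) a]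
        exact hsupp j₁ _ hj₁ a ha
      obtain ⟨u, hu, huniq⟩ := existsUnique_of_squares hq (k := k) (by omega)
        (x := fun u => coordsIn P y (idx.symm (j₁, u)) j) (by
          have hjj := congrFun (congrFun hX j) j
          rw [twist_refl, Matrix.mul_apply, ← Equiv.sum_comp idx.symm, Fintype.sum_prod_type,
            Finset.sum_eq_single j₁, Matrix.diagonal_apply_eq] at hjj
          · simp only [Matrix.mul_diagonal, Matrix.transpose_apply] at hjj
            rw [Finset.sum_congr rfl fun u _ => show coordsIn P y (idx.symm (j₁, u)) j * (2 * lam) *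
              coordsIn P y (idx.symm (j₁, u)) j = 2 * lam * (coordsIn P y (idx.symm (j₁, u)) j *
              coordsIn P y (idx.symm (j₁, u)) j) by ring, ← Finset.mul_sum] at hjj
            exact mul_left_cancel₀ (mul_ne_zero h2 hlam) (hjj.trans (mul_one _).symm)
          · intro i _ hi'
            refine Finset.sum_eq_zero fun u _ => ?_
            rw [hzero (idx.symm (i, u)) (by simpa using hi'), mul_zero]
          · simp)
      refine ⟨idx.symm (j₁, u), hu, fun a ha => ?_⟩
      have ha1 : (idx a).1 = j₁ := by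
        by_contra h'
        exact ha (hzero a h')
      apply idx.injective
      rw [Equiv.apply_symm_apply]
      refine Prod.ext ha1 (huniq (idx a).2 ?_)
      show coordsIn P y (idx.symm (j₁, (idx a).2)) j ≠ 0
      rw [← ha1, show ((idx a).1, (idx a).2) = idx a from rfl, Equiv.symm_apply_apply]
      exact ha
    choose f hf huniq using hcolj
    have hsurj : Function.Surjective f := by
      intro i
      by_contra hi
      push Not at hi
      have hdet : (coordsIn P y).det = 0 := Matrix.det_eq_zero_of_row_eq_zero i fun j => by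
        by_contra h0
        exact hi j (huniq j i h0).symm
      exact ((Matrix.isUnit_iff_isUnit_det _).mp (P⁻¹ * y * P).isUnit).ne_zero hdet
    refine mem_blockStab P _ ((Fintype.equivFin ι).permCongr
      (Equiv.ofBijective f ⟨(Finite.injective_iff_surjective).mpr hsurj, hsurj⟩)) fun a b hab => ?_
    (simp [huniq b a hab]; rfl)
  · refine mem_blockStab P _ ((Fintype.equivFin ι).permCongr
      ((Equiv.swap (ix i₀ z) (ix i₂ z)).trans (Equiv.swap (ix i₀ z) (ix i₁ z)))) fun a b hab => ?_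
    simp only [Equiv.permCongr_apply, Equiv.symm_apply_apply, EmbeddingLike.apply_eq_iff_eq, Equiv.trans_apply]
    by_contra hne
    apply hab
    have himg : ∀ b, ∃ c, (g : Matrix ι ι F) *ᵥ V b = V c ∧
        c = Equiv.swap (ix i₀ z) (ix i₁ z) (Equiv.swap (ix i₀ z) (ix i₂ z) b) := by
      intro b
      have n01 : ix i₀ z ≠ ix i₁ z := by simp [hix, i₀, i₁]
      have n02 : ix i₀ z ≠ ix i₂ z := by simp [hix, i₀, i₂]
      have n12 : ix i₁ z ≠ ix i₂ z := by simp [hix, i₁, i₂]
      by_cases h1 : b = ix i₀ z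
      · subst h1
        exact ⟨_, hga, by rw [Equiv.swap_apply_left, Equiv.swap_apply_of_ne_of_ne n02.symm n12.symm]⟩
      by_cases h2' : b = ix i₁ z
      · subst h2'
        exact ⟨_, hgb, by rw [Equiv.swap_apply_of_ne_of_ne n01.symm n12, Equiv.swap_apply_right]⟩
      by_cases h3' : b = ix i₂ z
      · subst h3'
        exact ⟨_, hgc, by rw [Equiv.swap_apply_right, Equiv.swap_apply_left]⟩
      exact ⟨b, hgx b h1 h2' h3', by
        rw [Equiv.swap_apply_of_ne_of_ne h1 h3', Equiv.swap_apply_of_ne_of_ne h1 h2']⟩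
    obtain ⟨c, hc, hc'⟩ := himg b
    rw [coordsIn_of_image (x := Pi.single c 1) (by rw [hcol, hcol, hc]) a, Pi.single_apply, if_neg]
    rw [hc']
    exact hne
  · intro h
    obtain ⟨s, hs⟩ := h.1
    have him : ∀ u, (g : Matrix ι ι F) *ᵥ V (ix i₀ u) ∈ D (s i₀) := fun u => by
      rw [← hs i₀]
      refine ⟨V (ix i₀ u), ?_, Matrix.toLin'_apply _ _⟩
      simp [V, ix]
      exact hvmem i₀ u
    have e1 := him z
    rw [hga] at e1
    have e2 := him o
    rw [hgx _ (by simp [hix, hzo.symm]) (by simp [hix, i₀, i₁]) (by simp [hix, i₀, i₂])] at e2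
    have hmember : ∀ i j u, V (ix i u) ∈ D j → i = j := by
      intro i j u hmem
      by_contra hij
      have h0 := hsupp j _ hmem (ix i u) (by simpa [ix] using hij)
      rw [← hcol, inv_mulVec_mulVec, Pi.single_eq_same] at h0
      exact one_ne_zero h0
    have := (hmember _ _ _ e2).trans (hmember _ _ _ e1).symm
    simp [i₀, i₂] at this
  · have himg := coordsIn_of_image (g := x) (P := P) (b := ix i₃ z)
      (x := Pi.single (ix i₀ z) 1 + Pi.single (ix i₁ z) 1 + Pi.single (ix i₂ z) 1 + (2 : F) • Pi.single (ix i₃ z) 1)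
      (by simp only [Matrix.mulVec_add, Matrix.mulVec_smul, hcol, hxd])
    refine not_mem_blockStab (g := x) (a := ix i₀ z) (a' := ix i₁ z) (b := ix i₃ z) ?_ ?_
      (by simp [hix, i₀, i₁]) h.1 <;>
      · rw [himg]
        simp [Pi.single_apply, hix, i₀, i₁, i₂, i₃]

/-- An orthogonal group in three dimensions tensor an orthogonal group, over three elements. -/
theorem exists_between_orth_tensor (hQ : IsNondegenerateQuadraticForm Q) (hq : Fintype.card F = 3) {n₂ : ℕ}
    (hn₂ : 4 ≤ n₂) (e : ι ≃ Fin 3 × Fin n₂) (P₀ : GL ι F) (f₁ : (Fin 3 → F) → (Fin 3 → F) → F)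
    (f₂ : (Fin n₂ → F) → (Fin n₂ → F) → F) (hf₁ : IsSymmetricForm f₁) (hf₂ : IsSymmetricForm f₂)
    (hT : IsTensorFormStructure id B f₁ f₂ e P₀) :
    ∃ K : Subgroup (GL ι F), tensorProductSubgroup 3 n₂ e P₀ ⊓ omegaGL Q < K ∧ K < omegaGL Q := by
  classical
  have h2 := two_ne_zero_of_three (F := F) hq
  have hbl := hQ.polar_bilinear
  haveI : Nonempty (Fin n₂) := ⟨⟨0, by omega⟩⟩
  have hsymG : ∀ {d : ℕ} (f : (Fin d → F) → (Fin d → F) → F), IsSymmetricForm f → ∃ G : GL (Fin d) F,
      (G : Matrix (Fin d) (Fin d) F) = gramMatrix f ∧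
      (G : Matrix (Fin d) (Fin d) F)ᵀ = (G : Matrix (Fin d) (Fin d) F) := by
    intro d f hf
    obtain ⟨G, -, hG⟩ := exists_gram_bilinear hf.bilinear hf.nondegenerate
    refine ⟨G, hG, ?_⟩
    ext i j
    rw [Matrix.transpose_apply, hG]
    exact hf.symm _ _
  obtain ⟨G₁, hG₁, hG₁t⟩ := hsymG f₁ hf₁
  obtain ⟨G₂, hG₂, hG₂t⟩ := hsymG f₂ hf₂
  obtain ⟨β, u, hu, hβ⟩ := exists_congr_scalar (F := F) (by rw [hq]; decide) (d := 3) (by decide) G₁ hG₁t
  -- a basis of the second factor with all but one value equal to one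
  obtain ⟨γ, x₀, hx₀, hγ⟩ : ∃ (γ : GL (Fin n₂) F) (x₀ : F), x₀ ≠ 0 ∧
      (γ : Matrix (Fin n₂) (Fin n₂) F)ᵀ * (G₂ : Matrix (Fin n₂) (Fin n₂) F) * (γ : Matrix (Fin n₂) (Fin n₂) F) =
        Matrix.diagonal (fun j : Fin n₂ => if (j : ℕ) = 0 then x₀ else 1) := by
    obtain ⟨k, rfl⟩ : ∃ k, n₂ = k + 1 := ⟨n₂ - 1, by omega⟩
    have hF : IsFormGram (RingEquiv.refl F) G₂ 1 := ⟨fun _ => rfl, by rw [twist_refl, one_smul, hG₂t]⟩
    obtain ⟨w, hw⟩ := exists_orth_family hF 2 (symm_represents h2 hF) k (by simp)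
    obtain ⟨W, hW, hnd, hdim⟩ := orth_complement hF w hw
    rw [Fintype.card_fin] at hdim
    obtain ⟨y, hy, hy0⟩ := exists_anisotropic h2 hF (ne_bot_of_finrank_pos (by omega : 0 < Module.finrank F W)) hnd
    obtain ⟨γ, -, hγ⟩ := gram_of_columns (G := G₂) (σ := RingEquiv.refl F) (Fin.cons y w : Fin (k + 1) → _)
      (fun j => if (j : ℕ) = 0 then formM (RingEquiv.refl F) (G₂ : Matrix _ _ F) y y else 1) (fun a b => by
        refine Fin.cases ?_ (fun a' => ?_) a <;> refine Fin.cases ?_ (fun b' => ?_) b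
        · simp
        · simp only [Fin.cons_zero, Fin.cons_succ, (hW y).mp hy b', (Fin.succ_ne_zero b').symm, if_false]
        · simp only [Fin.cons_zero, Fin.cons_succ, formM_eq_zero_comm hF ((hW y).mp hy a'), Fin.succ_ne_zero,
            if_false]
        · simp only [Fin.cons_succ, hw, Fin.succ_inj, Fin.val_succ, Nat.succ_ne_zero, if_false])
      (fun a => by by_cases ha : (a : ℕ) = 0 <;> simp [ha, hy0])
    rw [twist_refl] at hγ
    exact ⟨γ, _, hy0, hγ⟩
  obtain ⟨c, hc, hT⟩ := hT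
  obtain ⟨G, hG, -⟩ := exists_gram_bilinear hbl hQ.nondegenerate
  set P := tensorFrame e P₀ β γ with hPdef
  set dd : Fin n₂ → F := fun j => if (j : ℕ) = 0 then x₀ else 1 with hdd
  have hdd0 : ∀ j, dd j ≠ 0 := fun j => by simp only [hdd]; split_ifs <;> simp [hx₀]
  have hP₀ : (P₀ : Matrix ι ι F)ᵀ * (G : Matrix ι ι F) * (P₀ : Matrix ι ι F) =
      c • ((G₁ : Matrix (Fin 3) (Fin 3) F) ⊗ₖ (G₂ : Matrix (Fin n₂) (Fin n₂) F)).submatrix e e := by
    refine formM_injective (RingEquiv.refl F) fun a b => ?_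
    have h := hT (a ∘ e.symm) (b ∘ e.symm)
    rw [show (a ∘ e.symm) ∘ e = a by ext; simp, show (b ∘ e.symm) ∘ e = b by ext; simp, hG, formM_mulVec,
      show (id : F → F) = ⇑(RingEquiv.refl F) from rfl, formOfGram_eq, ← hG₁, ← hG₂, twist_refl] at h
    rw [h, formM_smul, ← formM_submatrix (RingEquiv.refl F) _ e (a ∘ e.symm) (b ∘ e.symm)]
    congr 2 <;> ext <;> simp
  have hP : (P : Matrix ι ι F)ᵀ * (G : Matrix ι ι F) * twist (RingEquiv.refl F) (P : Matrix ι ι F) =
      Matrix.diagonal (fun a => c * u * dd (e a).2) := by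
    rw [twist_refl, hPdef, coe_tensorFrame, Matrix.transpose_mul]
    calc _ = (((β : Matrix (Fin 3) (Fin 3) F) ⊗ₖ (γ : Matrix (Fin n₂) (Fin n₂) F)).submatrix e e)ᵀ *
          ((P₀ : Matrix ι ι F)ᵀ * (G : Matrix ι ι F) * (P₀ : Matrix ι ι F)) *
          ((β : Matrix (Fin 3) (Fin 3) F) ⊗ₖ (γ : Matrix (Fin n₂) (Fin n₂) F)).submatrix e e := by
          simp only [mul_assoc]
      _ = _ := by
          rw [hP₀, Matrix.mul_smul, Matrix.smul_mul, Matrix.transpose_submatrix, Matrix.submatrix_mul_equiv,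
            Matrix.submatrix_mul_equiv, ← Matrix.kroneckerMap_transpose, ← Matrix.mul_kronecker_mul,
            ← Matrix.mul_kronecker_mul, hβ, hγ]
          ext a b
          by_cases hab : a = b
          · subst hab; simp [hdd, mul_assoc]
          · rw [Matrix.diagonal_apply_ne _ hab]
            have : (e a).1 ≠ (e b).1 ∨ (e a).2 ≠ (e b).2 := by
              by_contra h; push Not at h; exact hab (e.injective (Prod.ext h.1 h.2))
            rcases this with h | h <;> simp [Matrix.one_apply, h, Matrix.diagonal_apply]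
  let V : ι → (ι → F) := fun a => (P : Matrix ι ι F) *ᵥ Pi.single a 1
  have hV : ∀ a b, B (V a) (V b) = if a = b then c * u * dd (e a).2 else 0 := fun a b => by
    simp only [V]
    rw [hG, formM_mulVec, hP, formM_single, Matrix.diagonal_apply]
  have hQV : ∀ a, Q (V a) = c * u * dd (e a).2 / 2 := fun a => by
    rw [eq_div_iff h2, mul_comm, ← polar_self hQ, hV, if_pos rfl]
  have hVo : ∀ a b, a ≠ b → B (V a) (V b) = 0 := fun a b h => by rw [hV, if_neg h]
  have hVd : ∀ a, Q (V a) ≠ 0 := fun a => by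
    rw [hQV]
    exact div_ne_zero (mul_ne_zero (mul_ne_zero hc hu) (hdd0 _)) h2
  let j₁ : Fin n₂ := ⟨1, by omega⟩
  let j₂ : Fin n₂ := ⟨2, by omega⟩
  let j₃ : Fin n₂ := ⟨3, by omega⟩
  let ix : Fin 3 → Fin n₂ → ι := fun i j => e.symm (i, j)
  have hix : ∀ i j i' j', ix i j = ix i' j' ↔ i = i' ∧ j = j' := fun i j i' j' => by simp [ix, Prod.ext_iff]
  have hval : ∀ i (j : Fin n₂), (j : ℕ) ≠ 0 → Q (V (ix i j)) = c * u / 2 := fun i j hj => by
    rw [hQV]; simp [ix, hdd, hj]
  obtain ⟨g, hg, hga, hgb, hgc, hgx⟩ := exists_cycle hQ hVo hVd h2 (a := ix 0 j₁) (b := ix 0 j₂) (c := ix 0 j₃)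
    (by simp [hix, j₁, j₂]) (by simp [hix, j₁, j₃]) (by simp [hix, j₂, j₃])
    (by rw [hval _ _ (by simp [j₁]), hval _ _ (by simp [j₂])]) (by rw [hval _ _ (by simp [j₂]), hval _ _ (by simp [j₃])])
  obtain ⟨x, hx, hxd⟩ := exists_mixer hQ hVo hVd hq (a := ix 0 j₁) (b := ix 1 j₁) (c := ix 2 j₁) (d := ix 0 j₂)
    (e := ix 1 j₂) (by simp [hix]) (by simp [hix]) (by simp [hix, j₁, j₂]) (by simp [hix]) (by simp [hix])
    (by simp [hix]) (by simp [hix]) (by simp [hix, j₁, j₂]) (by simp [hix]) (by simp [hix])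
    (by rw [hval _ _ (by simp [j₁]), hval _ _ (by simp [j₁])]) (by rw [hval _ _ (by simp [j₁]), hval _ _ (by simp [j₁])])
    (by rw [hval _ _ (by simp [j₂]), hval _ _ (by simp [j₁])]) (by rw [hval _ _ (by simp [j₂]), hval _ _ (by simp [j₁])])
  have hcolimg : ∀ b, ∃ d, (g : Matrix ι ι F) *ᵥ V b = V d ∧ (e d).1 = (e b).1 ∧ ((e b).1 ≠ 0 → d = b) := by
    intro b
    by_cases h1 : b = ix 0 j₁
    · exact ⟨_, h1 ▸ hga, by simp [h1, ix], fun h => absurd (by simp [h1, ix]) h⟩
    by_cases h2' : b = ix 0 j₂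
    · exact ⟨_, h2' ▸ hgb, by simp [h2', ix], fun h => absurd (by simp [h2', ix]) h⟩
    by_cases h3' : b = ix 0 j₃
    · exact ⟨_, h3' ▸ hgc, by simp [h3', ix], fun h => absurd (by simp [h3', ix]) h⟩
    exact ⟨b, hgx b h1 h2' h3', rfl, fun _ => rfl⟩
  refine exists_between (K := decompositionStabilizer (blocks P (fun a => (e a).1)) ⊓ omegaGL Q)
    (fun y hy => ⟨?_, hy.2⟩) inf_le_right (g := g) ⟨?_, hg⟩ ?_ hx (fun h => ?_)
  · obtain ⟨a, b, hab⟩ := (mem_tensor_iff e P₀ β γ y).mp hy.1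
    have hX := coords_preserves (σ := RingEquiv.refl F) (g := y) hP
      (preserves_of_isometry hG (mem_isometry_of_omega hy.2))
    rw [twist_refl, ← hPdef] at *
    rw [hab, show Matrix.diagonal (fun a => c * u * dd (e a).2) =
      ((c * u) • ((1 : Matrix (Fin 3) (Fin 3) F) ⊗ₖ Matrix.diagonal dd)).submatrix e e by
        rw [← Matrix.diagonal_one, Matrix.diagonal_kronecker_diagonal, ← Matrix.diagonal_smul,
          Matrix.submatrix_diagonal_equiv]
        congr 1
        funext a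
        simp [mul_assoc],
      Matrix.transpose_submatrix, Matrix.submatrix_mul_equiv, Matrix.submatrix_mul_equiv, Matrix.mul_smul,
      Matrix.smul_mul, ← Matrix.kroneckerMap_transpose, ← Matrix.mul_kronecker_mul, ← Matrix.mul_kronecker_mul,
      mul_one] at hX
    have h1 : ((a : Matrix (Fin 3) (Fin 3) F)ᵀ * (a : Matrix (Fin 3) (Fin 3) F)) ⊗ₖ
        ((b : Matrix (Fin n₂) (Fin n₂) F)ᵀ * Matrix.diagonal dd * (b : Matrix (Fin n₂) (Fin n₂) F)) =
        (1 : Matrix (Fin 3) (Fin 3) F) ⊗ₖ Matrix.diagonal dd := by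
      ext p q
      have h0 := congrFun (congrFun hX (e.symm p)) (e.symm q)
      simp only [Matrix.submatrix_apply, Equiv.apply_symm_apply, Matrix.smul_apply, smul_eq_mul] at h0
      exact mul_left_cancel₀ (mul_ne_zero hc hu) h0
    have hddne : Matrix.diagonal dd ≠ 0 := fun h0 =>
      hdd0 j₁ (by simpa using congrFun (congrFun h0 j₁) j₁)
    obtain ⟨d, hd, ha, -⟩ := kronecker_eq_cases one_ne_zero hddne h1
    have hd1 : d = 1 := by
      have hdet := congrArg Matrix.det ha
      rw [Matrix.det_mul, Matrix.det_transpose, Matrix.det_smul, Matrix.det_one, Fintype.card_fin, mul_one,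
        sq_eq_one_of_three hq ((Matrix.isUnit_iff_isUnit_det _).mp a.isUnit).ne_zero] at hdet
      have := sq_eq_one_of_three hq hd
      linear_combination -hdet - d * this
    obtain ⟨π, hπ⟩ := exists_perm_of_monomial a fun j => existsUnique_of_squares hq le_rfl
      (x := fun i => (a : Matrix (Fin 3) (Fin 3) F) i j) (by
        have := congrFun (congrFun ha j) j
        simpa [Matrix.mul_apply, hd1] using this)
    exact tensor_mem_blockStab hab π hπ
  · refine mem_blockStab P _ (Equiv.refl _) fun a b hab => ?_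
    obtain ⟨d, hd, hd1, -⟩ := hcolimg b
    by_contra hne
    apply hab
    rw [coordsIn_of_image (x := Pi.single d 1) hd a, Pi.single_apply, if_neg (fun h0 => hne (by rw [h0]; exact hd1))]
  · intro h
    refine not_tensor (β := β) (γ := γ) (i₀ := (1 : Fin 3)) (i₁ := (0 : Fin 3)) (j₀ := j₁) (j := j₃) (l := j₁) ?_ ?_
      h.1
    · intro p q
      obtain ⟨d, hd, -, hd'⟩ := hcolimg (e.symm (1, q))
      rw [hd' (by simp)] at hd
      rw [← hPdef, coordsIn_of_image (x := Pi.single (e.symm (1, q)) 1) hd, Pi.single_apply]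
      exact if_congr (by simp) rfl rfl
    · rw [← hPdef, coordsIn_of_image (b := e.symm (0, j₁)) (x := Pi.single (ix 0 j₃) 1) hga,
        if_neg (by simp [j₁, j₃])]
      simp [ix]
  · have himg := coordsIn_of_image (g := x) (P := P) (b := ix 0 j₂)
      (x := Pi.single (ix 0 j₁) 1 + Pi.single (ix 1 j₁) 1 + Pi.single (ix 2 j₁) 1 + (2 : F) • Pi.single (ix 0 j₂) 1)
      (by simp only [Matrix.mulVec_add, Matrix.mulVec_smul]; exact hxd)
    refine not_mem_blockStab (g := x) (a := ix 0 j₁) (a' := ix 1 j₁) (b := ix 0 j₂) ?_ ?_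
      (by simp [ix]) h.1 <;>
      · rw [himg]
        simp [Pi.single_apply, hix, j₁, j₂]

end Cfsg.Agent.Lib.NonMax
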