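import Cfsg.Agent.Lib.NonMax.Basic

/-!
Decompositions with very small members: the stabiliser fixes the number of non-zero components modulo the
characteristic, so it is not maximal in `SL_n`, respectively `Sp_n`.
-/

set_option autoImplicit false

namespace Cfsg.Agent.Lib.NonMax

open Cfsg Cfsg.Geo Matrix Cfsg.Agent.Lib.MaxClass
open scoped commutatorElement

variable {ι : Type} [Fintype ι] [DecidableEq ι] {F : Type*} [Field F]

/-- The number of non-zero components, in `F`. -/
noncomputable def compCount {t : ℕ} (π : Fin t → (ι → F) →ₗ[F] (ι → F)) (x : ι → F) : F :=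
  open scoped Classical in ∑ i, if π i x = 0 then 0 else 1

lemma stabilizer_le_fnStab {t : ℕ} {D : Fin t → Submodule F (ι → F)} {π : Fin t → (ι → F) →ₗ[F] (ι → F)}
    (h : IsCompFamily D π) : decompositionStabilizer D ≤ fnStab (compCount π) := by
  classical
  intro g hg x
  obtain ⟨σ, hσ⟩ := hg
  refine (Equiv.sum_comp σ (fun j => if π j ((g : Matrix ι ι F) *ᵥ x) = 0 then (0 : F) else 1)).symm.trans ?_
  refine Finset.sum_congr rfl fun i _ => ?_
  have hiff : π (σ i) ((g : Matrix ι ι F) *ᵥ x) = 0 ↔ π i x = 0 := by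
    rw [h.comp_perm hσ]
    exact ⟨fun h0 => mulVec_left_inj (g := g) (by rw [h0, Matrix.mulVec_zero]), fun h0 => by
      rw [h0, Matrix.mulVec_zero]⟩
  show (if π (σ i) ((g : Matrix ι ι F) *ᵥ x) = 0 then (0 : F) else 1) = _
  by_cases h0 : π i x = 0
  · rw [if_pos h0, if_pos (hiff.mpr h0)]
  · rw [if_neg h0, if_neg (fun e => h0 (hiff.mp e))]

lemma two_three_four [Fintype F] (hq : Fintype.card F ≤ 4) :
    (Fintype.card F = 2 ∧ (2 : F) = 0) ∨ (Fintype.card F = 3 ∧ (3 : F) = 0) ∨
      (Fintype.card F = 4 ∧ (2 : F) = 0) := by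
  have h1 := Fintype.one_lt_card (α := F)
  have hz : ((Fintype.card F : ℕ) : F) = 0 := Nat.cast_card_eq_zero F
  have hcases : Fintype.card F = 2 ∨ Fintype.card F = 3 ∨ Fintype.card F = 4 := by omega
  rcases hcases with e | e | e <;> rw [e] at hz <;> norm_num at hz
  · exact Or.inl ⟨e, hz⟩
  · exact Or.inr (Or.inl ⟨e, hz⟩)
  · exact Or.inr (Or.inr ⟨e, mul_self_eq_zero.mp (show (2 : F) * 2 = 0 by linear_combination hz)⟩)

lemma ind_eq_pow [Fintype F] (z : F) :
    (open scoped Classical in if z = 0 then (0 : F) else 1) = z ^ (Fintype.card F - 1) := by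
  split_ifs with h
  · rw [h, zero_pow (by have := Fintype.one_lt_card (α := F); omega)]
  · rw [FiniteField.pow_card_sub_one_eq_one z h]

/-- The identity behind the mixing element. -/
theorem ind_key [Fintype F] {m : ℕ} (h : (m = 1 ∧ Fintype.card F ≤ 4) ∨ (m = 2 ∧ Fintype.card F = 2))
    (x : Fin 4 → (Fin m → F)) :
    (open scoped Classical in ∑ k, if x k + ∑ l, x l = 0 then (0 : F) else 1) =
      open scoped Classical in ∑ k, if x k = 0 then (0 : F) else 1 := by
  classical
  rcases h with ⟨rfl, hq⟩ | ⟨rfl, hq⟩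
  · have e : ∀ a : Fin 1 → F, (if a = 0 then (0 : F) else 1) = (a 0) ^ (Fintype.card F - 1) := fun a => by
      rw [← ind_eq_pow]
      exact if_congr ⟨fun ha => by rw [ha]; rfl, fun ha => funext fun i => by rw [Fin.fin_one_eq_zero i]; exact ha⟩
        rfl rfl
    simp only [e, Fin.sum_univ_four, Pi.add_apply]
    rcases two_three_four hq with ⟨hc, h2⟩ | ⟨hc, h3⟩ | ⟨hc, h2⟩ <;> rw [hc] <;> norm_num
    · linear_combination (2 * (x 0 0 + x 1 0 + x 2 0 + x 3 0)) * h2
    · linear_combination (2 * (x 0 0 + x 1 0 + x 2 0 + x 3 0) ^ 2) * h3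
    · linear_combination (5 * (x 0 0 + x 1 0 + x 2 0 + x 3 0) ^ 3
        - 3 * (x 0 0 + x 1 0 + x 2 0 + x 3 0) * (x 0 0 * x 1 0 + x 0 0 * x 2 0 + x 0 0 * x 3 0 +
          x 1 0 * x 2 0 + x 1 0 * x 3 0 + x 2 0 * x 3 0)) * h2
  · have h01 : ∀ z : F, z = 0 ∨ z = 1 := fun z => by
      rcases eq_or_ne z 0 with hz | hz
      · exact Or.inl hz
      · have := FiniteField.pow_card_sub_one_eq_one z hz
        rw [hq] at this
        exact Or.inr (by simpa using this)
    have h2 : (2 : F) = 0 := by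
      rcases two_three_four (F := F) (by omega) with ⟨-, h⟩ | ⟨hc, -⟩ | ⟨hc, -⟩ <;> first | exact h | omega
    have e : ∀ a : Fin 2 → F, (if a = 0 then (0 : F) else 1) = a 0 ^ 2 + a 0 * a 1 + a 1 ^ 2 := fun a => by
      have hiff : a = 0 ↔ a 0 = 0 ∧ a 1 = 0 := by
        constructor
        · rintro rfl; exact ⟨rfl, rfl⟩
        · rintro ⟨h0, h1⟩; funext i; fin_cases i <;> assumption
      rw [if_congr hiff rfl rfl]
      rcases h01 (a 0) with h0 | h0 <;> rcases h01 (a 1) with h1 | h1 <;> simp [h0, h1]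
      linear_combination h2
    simp only [e, Fin.sum_univ_four, Pi.add_apply]
    linear_combination (3 * ((x 0 0 + x 1 0 + x 2 0 + x 3 0) ^ 2 +
      (x 0 0 + x 1 0 + x 2 0 + x 3 0) * (x 0 1 + x 1 1 + x 2 1 + x 3 1) +
      (x 0 1 + x 1 1 + x 2 1 + x 3 1) ^ 2)) * h2

/-- An element of determinant one that fixes the count and does not permute the members. -/
theorem exists_mixing [Fintype F] {t m : ℕ} {D : Fin t → Submodule F (ι → F)}
    {π : Fin t → (ι → F) →ₗ[F] (ι → F)} (hπ : IsCompFamily D π) (hfin : ∀ i, Module.finrank F (D i) = m)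
    (h : (m = 1 ∧ Fintype.card F ≤ 4) ∨ (m = 2 ∧ Fintype.card F = 2)) (ht : 5 ≤ t) :
    ∃ g : GL ι F, g ∈ fnStab (compCount π) ⊓ specialLinear ι F ∧ g ∉ decompositionStabilizer D := by
  classical
  let ψ : ∀ i, D i ≃ₗ[F] (Fin m → F) := fun i =>
    LinearEquiv.ofFinrankEq _ _ ((hfin i).trans (Module.finrank_fin_fun F).symm)
  let c : Fin t → (ι → F) →ₗ[F] (Fin m → F) := fun i => (ψ i).toLinearMap ∘ₗ (π i).codRestrict (D i) (hπ.mem i)
  let e : Fin t → (Fin m → F) →ₗ[F] (ι → F) := fun i => (D i).subtype ∘ₗ (ψ i).symm.toLinearMap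
  have hemem : ∀ i a, e i a ∈ D i := fun i a => Subtype.mem _
  have hec : ∀ i x, e i (c i x) = π i x := fun i x => by simp [e, c]
  have hsum : ∀ x, ∑ i, e i (c i x) = x := fun x => by simp only [hec]; exact hπ.sum x
  have hce : ∀ i j a, c i (e j a) = if i = j then a else 0 := by
    intro i j a
    have h0 := hπ.of_mem i j _ (hemem j a)
    show ψ i ⟨π i (e j a), hπ.mem i _⟩ = _
    by_cases hij : i = j
    · subst hij
      rw [if_pos rfl] at h0 ⊢
      have h1 : (⟨π i (e i a), hπ.mem i _⟩ : D i) = (ψ i).symm a := Subtype.ext h0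
      rw [h1, LinearEquiv.apply_symm_apply]
    · rw [if_neg hij] at h0 ⊢
      have h1 : (⟨π i (e j a), hπ.mem i _⟩ : D i) = 0 := Subtype.ext h0
      rw [h1, map_zero]
  have hinj : ∀ x y, (∀ i, c i x = c i y) → x = y := fun x y hxy => by rw [← hsum x, ← hsum y]; simp only [hxy]
  have hcount : ∀ x, compCount π x = ∑ i, if c i x = 0 then (0 : F) else 1 := fun x => by
    refine Finset.sum_congr rfl fun i _ => ?_
    by_cases h0 : π i x = 0
    · have h1 : c i x = 0 :=
        (congrArg (ψ i) (Subtype.ext h0 : (⟨π i x, hπ.mem i x⟩ : D i) = 0)).trans (map_zero _)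
      rw [if_pos h0, if_pos h1]
    · rw [if_neg h0, if_neg (fun e0 => h0 (by rw [← hec, e0, map_zero]))]
  let a : Fin 4 → Fin t := fun k => ⟨k, by omega⟩
  have ha : Function.Injective a := fun k l hkl => Fin.ext (Fin.mk.inj_iff.mp hkl)
  let s : (ι → F) →ₗ[F] (Fin m → F) := ∑ k, c (a k)
  let L : (ι → F) →ₗ[F] (ι → F) := LinearMap.id + ∑ k, e (a k) ∘ₗ s
  have hcL_in : ∀ k x, c (a k) (L x) = c (a k) x + s x := by
    intro k x
    simp only [L, LinearMap.add_apply, LinearMap.id_apply, LinearMap.sum_apply, LinearMap.comp_apply, map_add,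
      map_sum, hce]
    rw [Finset.sum_eq_single k]
    · rw [if_pos rfl]
    · intro l _ hl; rw [if_neg (fun e0 => hl (ha e0).symm)]
    · simp
  have hcL_out : ∀ j x, j ∉ Set.range a → c j (L x) = c j x := by
    intro j x hj
    simp only [L, LinearMap.add_apply, LinearMap.id_apply, LinearMap.sum_apply, LinearMap.comp_apply, map_add,
      map_sum, hce]
    rw [Finset.sum_eq_zero (fun l _ => if_neg (fun e0 => hj ⟨l, e0.symm⟩)), add_zero]
  have hsx : ∀ x, s x = ∑ k, c (a k) x := fun x => by simp [s]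
  have h5 : (5 : F) ≠ 0 := by
    rcases two_three_four (F := F) (by omega) with ⟨-, h2⟩ | ⟨-, h3⟩ | ⟨-, h2⟩
    · intro h5; exact one_ne_zero (show (1 : F) = 0 by linear_combination h5 - 2 * h2)
    · intro h5; exact one_ne_zero (show (1 : F) = 0 by linear_combination -h5 + 2 * h3)
    · intro h5; exact one_ne_zero (show (1 : F) = 0 by linear_combination h5 - 2 * h2)
  have hLinj : Function.Injective L := by
    rw [← LinearMap.ker_eq_bot, LinearMap.ker_eq_bot']
    intro x hx
    have hz : ∀ j, c j (L x) = 0 := fun j => by rw [hx, map_zero]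
    have hs0 : s x = 0 := by
      have h4 : ∑ k, (c (a k) x + s x) = 0 := Finset.sum_eq_zero fun k _ => by rw [← hcL_in]; exact hz _
      rw [Finset.sum_add_distrib, ← hsx, Finset.sum_const, Finset.card_univ, Fintype.card_fin] at h4
      have h4' : (5 : F) • s x = 0 := by
        rw [show (5 : F) = ((5 : ℕ) : F) by norm_num, Nat.cast_smul_eq_nsmul, succ_nsmul, add_comm]
        exact h4
      exact (smul_eq_zero.mp h4').resolve_left h5
    refine hinj x 0 fun j => ?_
    rw [map_zero]
    by_cases hj : j ∈ Set.range a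
    · obtain ⟨k, rfl⟩ := hj
      have := hz (a k)
      rwa [hcL_in, hs0, add_zero] at this
    · rw [← hcL_out j x hj]; exact hz j
  obtain ⟨g, hg⟩ := exists_gl L hLinj
  have hgf : g ∈ fnStab (compCount π) := by
    intro x
    rw [hg, hcount, hcount, ← sub_eq_zero, ← Finset.sum_sub_distrib,
      ← Fintype.sum_of_injective a ha
        (fun k => (if c (a k) x + s x = 0 then (0 : F) else 1) - if c (a k) x = 0 then 0 else 1)
        _ (fun j hj => by simp only [hcL_out j x hj, sub_self]) (fun k => by simp only [hcL_in]),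
      Finset.sum_sub_distrib, sub_eq_zero, hsx]
    exact ind_key h fun k => c (a k) x
  -- a permutation of the members
  let p : Equiv.Perm (Fin t) := Equiv.swap (a 3) ⟨4, by omega⟩
  let P : (ι → F) →ₗ[F] (ι → F) := ∑ i, e (p i) ∘ₗ c i
  have hcP : ∀ i x, c (p i) (P x) = c i x := by
    intro i x
    simp only [P, LinearMap.sum_apply, LinearMap.comp_apply, map_sum, hce]
    rw [Finset.sum_eq_single i]
    · rw [if_pos rfl]
    · intro j _ hj; rw [if_neg (fun e0 => hj (p.injective e0).symm)]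
    · simp
  obtain ⟨w, hw⟩ := exists_gl P (by
    intro x y hxy
    exact hinj x y fun i => by rw [← hcP i x, hxy, hcP])
  have hwf : w ∈ fnStab (compCount π) := by
    intro x
    rw [hw, hcount, hcount]
    refine (Equiv.sum_comp p (fun j => if c j (P x) = 0 then (0 : F) else 1)).symm.trans ?_
    simp only [hcP]
  refine ⟨⁅g, w⁆, ⟨?_, commutator_mem_specialLinear g w⟩, ?_⟩
  · rw [commutatorElement_def]
    exact (fnStab _).mul_mem ((fnStab _).mul_mem ((fnStab _).mul_mem hgf hwf) ((fnStab _).inv_mem hgf))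
      ((fnStab _).inv_mem hwf)
  have hm : 0 < m := by omega
  let v : Fin m → F := fun _ => 1
  have hv : v ≠ 0 := fun h0 => one_ne_zero (congrFun h0 ⟨0, hm⟩)
  have hP : ∀ i u, P (e i u) = e (p i) u := fun i u => by
    refine hinj _ _ fun j => ?_
    obtain ⟨k, rfl⟩ := p.surjective j
    rw [hcP, hce, hce]
    exact if_congr p.injective.eq_iff.symm rfl rfl
  set u := e (a 3) v with hu
  have h4 : (⟨4, by omega⟩ : Fin t) ∉ Set.range a := by
    rintro ⟨k, hk⟩
    have := congrArg Fin.val hk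
    simp [a] at this
    omega
  have hLfix : L (e ⟨4, by omega⟩ v) = e ⟨4, by omega⟩ v := by
    have hs : s (e ⟨4, by omega⟩ v) = 0 := by
      rw [hsx]
      exact Finset.sum_eq_zero fun k _ => by rw [hce, if_neg (fun e0 => h4 ⟨k, e0⟩)]
    simp [L, hs]
  have hstep : (((⁅g, w⁆ : GL ι F)) : Matrix ι ι F) *ᵥ u = L u := by
    rw [commutatorElement_def, Units.val_mul, Units.val_mul, Units.val_mul, ← Matrix.mulVec_mulVec,
      ← Matrix.mulVec_mulVec, ← Matrix.mulVec_mulVec]
    have h1 : ((w⁻¹ : GL ι F) : Matrix ι ι F) *ᵥ u = e ⟨4, by omega⟩ v := by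
      apply mulVec_left_inj (g := w)
      rw [mulVec_inv_mulVec, hw, hP, hu]
      simp [p]
    have h2 : ((g⁻¹ : GL ι F) : Matrix ι ι F) *ᵥ e ⟨4, by omega⟩ v = e ⟨4, by omega⟩ v := by
      apply mulVec_left_inj (g := g)
      rw [mulVec_inv_mulVec, hg, hLfix]
    rw [h1, h2, hw, hP, show p ⟨4, by omega⟩ = a 3 by simp [p], hg]
  intro hmem
  obtain ⟨j, hj⟩ := exists_member hmem (hemem (a 3) v)
  rw [← hu, hstep] at hj
  have hcomp : ∀ i, i ≠ j → c i (L u) = 0 := fun i hi => by
    have h0 := hπ.of_mem i j _ hj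
    rw [if_neg hi] at h0
    show ψ i ⟨π i (L u), hπ.mem i _⟩ = 0
    rw [show (⟨π i (L u), hπ.mem i _⟩ : D i) = 0 from Subtype.ext h0, map_zero]
  have hsu : s u = v := by
    rw [hsx, Finset.sum_eq_single 3]
    · rw [hu, hce, if_pos rfl]
    · intro k _ hk; rw [hu, hce, if_neg (fun e0 => hk (ha e0))]
    · simp
  have hne : ∀ k, k ≠ 3 → a k = j := fun k hk => by
    by_contra hkj
    have := hcomp _ hkj
    rw [hcL_in, hsu, hu, hce, if_neg (fun e0 => hk (ha e0)), zero_add] at this
    exact hv this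
  exact absurd (ha ((hne 0 (by decide)).trans (hne 1 (by decide)).symm)) (by decide)

/-- The number of members. -/
lemma card_members {t m : ℕ} {D : Fin t → Submodule F (ι → F)} (hD : IsMDecomposition m D) :
    Fintype.card ι = t * m := by
  have hint : DirectSum.IsInternal D :=
    DirectSum.isInternal_submodule_of_iSupIndep_of_iSup_eq_top hD.indep hD.iSup_eq_top
  have h := (LinearEquiv.ofBijective (DirectSum.coeLinearMap D) hint).finrank_eq
  rw [Module.finrank_directSum, Module.finrank_fintype_fun_eq_card] at h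
  rw [← h, Finset.sum_congr rfl (fun i _ => hD.finrank_eq i), Finset.sum_const, Finset.card_univ, Fintype.card_fin,
    smul_eq_mul]

lemma compCount_of_mem {t : ℕ} {D : Fin t → Submodule F (ι → F)} {π : Fin t → (ι → F) →ₗ[F] (ι → F)}
    (h : IsCompFamily D π) {i : Fin t} {v : ι → F} (hv : v ∈ D i) (hv0 : v ≠ 0) : compCount π v = 1 := by
  classical
  unfold compCount
  rw [Finset.sum_eq_single i]
  · rw [h.of_mem i i v hv, if_pos rfl, if_neg hv0]
  · intro j _ hj
    rw [h.of_mem j i v hv, if_neg hj, if_pos rfl]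
  · simp

lemma compCount_of_pair {t : ℕ} {D : Fin t → Submodule F (ι → F)} {π : Fin t → (ι → F) →ₗ[F] (ι → F)}
    (h : IsCompFamily D π) {i j : Fin t} (hij : i ≠ j) {u v : ι → F} (hu : u ∈ D i) (hu0 : u ≠ 0)
    (hv : v ∈ D j) (hv0 : v ≠ 0) : compCount π (u + v) = 2 := by
  classical
  unfold compCount
  rw [Finset.sum_eq_add i j hij]
  · rw [map_add, map_add, h.of_mem i i u hu, h.of_mem i j v hv, h.of_mem j i u hu, h.of_mem j j v hv,
      if_pos rfl, if_neg hij, if_neg hij.symm, if_pos rfl, add_zero, zero_add, if_neg hu0, if_neg hv0, one_add_one_eq_two]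
  · intro k _ hk
    rw [map_add, h.of_mem k i u hu, h.of_mem k j v hv, if_neg hk.1, if_neg hk.2, add_zero, if_pos rfl]
  · simp
  · simp

theorem exists_between_decomposition [Fintype F] {t m : ℕ} {D : Fin t → Submodule F (ι → F)}
    (hn : 13 ≤ Fintype.card ι) (hD : IsMDecomposition m D)
    (h : (m = 1 ∧ Fintype.card F ≤ 4) ∨ (m = 2 ∧ Fintype.card F = 2)) :
    ∃ K : Subgroup (GL ι F), decompositionStabilizer D ⊓ specialLinear ι F < K ∧ K < specialLinear ι F := by
  classical
  obtain ⟨π, hπ⟩ := exists_compFamily hD.indep hD.iSup_eq_top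
  have hc := card_members hD
  have ht : 5 ≤ t := by rcases h with ⟨rfl, -⟩ | ⟨rfl, -⟩ <;> omega
  obtain ⟨g, hg, hg'⟩ := exists_mixing hπ hD.finrank_eq h ht
  let i₀ : Fin t := ⟨0, by omega⟩
  let i₁ : Fin t := ⟨1, by omega⟩
  have hi : i₀ ≠ i₁ := by simp [i₀, i₁]
  have hne : ∀ i, ∃ u ∈ D i, u ≠ 0 := fun i => (D i).ne_bot_iff.mp fun h0 => by
    have := hD.finrank_eq i
    rw [h0, finrank_bot] at this
    have := hD.pos
    omega
  obtain ⟨u, hu, hu0⟩ := hne i₀
  obtain ⟨v, hv, hv0⟩ := hne i₁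
  have huv : u ∉ Submodule.span F {v} := fun h0 => hu0 (Submodule.disjoint_def.mp
    (hD.indep.pairwiseDisjoint hi) u hu ((Submodule.span_singleton_le_iff_mem _ _).mpr hv h0))
  obtain ⟨φ, hφu, hφ⟩ := exists_dot huv
  have hφv := hφ v (Submodule.mem_span_singleton_self v)
  refine exists_between (K := fnStab (compCount π) ⊓ specialLinear ι F)
    (inf_le_inf_right _ (stabilizer_le_fnStab hπ)) inf_le_right hg (fun h0 => hg' h0.1)
    (tv_mem_specialLinear v φ hφv) (fun h0 => ?_)
  have h1 := h0.1 u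
  rw [tv_mulVec, hφu, one_smul, compCount_of_pair hπ hi hu hu0 hv hv0, compCount_of_mem hπ hu hu0] at h1
  exact one_ne_zero (show (1 : F) = 0 by linear_combination h1)

/-- Symplectic transvections lie in the symplectic group. -/
theorem tv_mem_spGL {k : ℕ} (w : Fin k ⊕ Fin k → F) (h : (Matrix.J (Fin k) F *ᵥ w) ⬝ᵥ w = 0) :
    tv w (Matrix.J (Fin k) F *ᵥ w) h ∈ spGL k F := by
  intro x y
  show sympForm k F ((tv w _ h : GL _ F) *ᵥ x) ((tv w _ h : GL _ F) *ᵥ y) = sympForm k F x y
  have hskew : ∀ a b : Fin k ⊕ Fin k → F, a ⬝ᵥ (Matrix.J (Fin k) F *ᵥ b) = -(b ⬝ᵥ (Matrix.J (Fin k) F *ᵥ a)) := by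
    intro a b
    rw [dotProduct_comm a, dotProduct_mulVec b, ← Matrix.mulVec_transpose, Matrix.J_transpose, Matrix.neg_mulVec,
      neg_dotProduct, neg_neg]
  rw [tv_mulVec, tv_mulVec]
  simp only [sympForm, Matrix.mulVec_add, Matrix.mulVec_smul, add_dotProduct, dotProduct_add, smul_dotProduct,
    dotProduct_smul, smul_eq_mul]
  have hw : w ⬝ᵥ (Matrix.J (Fin k) F *ᵥ w) = 0 := by rw [dotProduct_comm]; exact h
  rw [hw, dotProduct_comm (Matrix.J (Fin k) F *ᵥ w) x, dotProduct_comm (Matrix.J (Fin k) F *ᵥ w) y, hskew w y]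
  ring

theorem exists_between_symp_decomposition [Fintype F] {k t : ℕ} (hk : 7 ≤ k) (hq : Fintype.card F = 2)
    {D : Fin t → Submodule F (Fin k ⊕ Fin k → F)} (hD : IsNondegenerateMDecomposition (sympForm k F) 2 D) :
    ∃ K : Subgroup (GL (Fin k ⊕ Fin k) F), decompositionStabilizer D ⊓ spGL k F < K ∧ K < spGL k F := by
  classical
  obtain ⟨π, hπ⟩ := exists_compFamily hD.decomp.indep hD.decomp.iSup_eq_top
  have hc := card_members hD.decomp
  rw [Fintype.card_sum, Fintype.card_fin] at hc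
  have ht : 5 ≤ t := by omega
  have h01 : ∀ z : F, z = 0 ∨ z = 1 := fun z => by
    rcases eq_or_ne z 0 with hz | hz
    · exact Or.inl hz
    · have := FiniteField.pow_card_sub_one_eq_one z hz
      rw [hq] at this
      exact Or.inr (by simpa using this)
  have h2 : (2 : F) = 0 := by
    rcases two_three_four (F := F) (by omega) with ⟨-, h⟩ | ⟨hc, -⟩ | ⟨hc, -⟩ <;> first | exact h | omega
  set B := sympForm k F with hBdef
  have hadd_l : ∀ x y z, B (x + y) z = B x z + B y z := fun x y z => add_dotProduct _ _ _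
  have hadd_r : ∀ x y z, B x (y + z) = B x y + B x z := fun x y z => by
    simp only [hBdef, sympForm, Matrix.mulVec_add, dotProduct_add]
  have hsmul_l : ∀ (a : F) x z, B (a • x) z = a * B x z := fun a x z => by
    simp only [hBdef, sympForm, smul_dotProduct, smul_eq_mul]
  have hneg : ∀ x, B x x = 0 := fun x => by
    simp only [hBdef, sympForm, dotProduct, Fintype.sum_sum_type, Matrix.mulVec, Matrix.J,
      Matrix.fromBlocks_apply₁₁, Matrix.fromBlocks_apply₁₂, Matrix.fromBlocks_apply₂₁, Matrix.fromBlocks_apply₂₂,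
      Matrix.zero_apply, Matrix.neg_apply, Matrix.one_apply, zero_mul, Finset.sum_const_zero, zero_add, add_zero,
      neg_mul, ite_mul, one_mul, Finset.sum_neg_distrib, Finset.sum_ite_eq, Finset.mem_univ, if_true]
    rw [← Finset.sum_add_distrib]
    exact Finset.sum_eq_zero fun i _ => by ring
  have hbil : ∀ x y, B x y = ∑ i, B (π i x) (π i y) := by
    intro x y
    have hl : ∀ z, B x z = ∑ i, B (π i x) z := fun z => by
      conv_lhs => rw [← hπ.sum x]
      exact sum_dotProduct _ _ _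
    rw [hl]
    refine Finset.sum_congr rfl fun i _ => ?_
    conv_lhs => rw [← hπ.sum y, hBdef, sympForm, Matrix.mulVec_sum, dotProduct_sum]
    rw [Finset.sum_eq_single i]
    · rfl
    · intro j _ hj
      exact hD.orthogonal i j (Ne.symm hj) _ (hπ.mem i x) _ (hπ.mem j y)
    · simp
  have hloc : ∀ i, ∀ a ∈ D i, ∀ b ∈ D i, a ≠ 0 → b ≠ 0 → a ≠ b → B a b = 1 := by
    intro i a ha b hb ha0 hb0 hab
    refine (h01 _).resolve_left fun h0 => ?_
    obtain ⟨⟨z, hz, hz'⟩, -⟩ := hD.nondegenerate i a ha ha0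
    have hspan : Submodule.span F {a, b} = D i := by
      refine Submodule.eq_of_le_of_finrank_le (Submodule.span_le.mpr (Set.insert_subset ha (by simpa using hb))) ?_
      rw [hD.decomp.finrank_eq i]
      have hli : LinearIndependent F ![a, b] := by
        rw [LinearIndependent.pair_iff' ha0]
        intro r hr
        rcases h01 r with rfl | rfl
        · exact hb0 (by rw [← hr, zero_smul])
        · exact hab (by rw [← hr, one_smul])
      have := finrank_span_eq_card hli
      rw [Fintype.card_fin, Matrix.range_cons, Matrix.range_cons, Matrix.range_empty, Set.union_empty,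
        Set.singleton_union] at this
      omega
    rw [← hspan] at hz
    obtain ⟨r, s, rfl⟩ := Submodule.mem_span_pair.mp hz
    apply hz'
    have hba : B b a = 0 := by
      have := hneg (a + b)
      rw [hadd_l, hadd_r, hadd_r, hneg a, hneg b, h0] at this
      simpa using this
    rw [hadd_l, hsmul_l, hsmul_l, hneg a, hba, mul_zero, mul_zero, add_zero]
  have hpolar : ∀ x y, compCount π (x + y) - compCount π x - compCount π y = B x y := by
    intro x y
    rw [hbil]
    unfold compCount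
    rw [← Finset.sum_sub_distrib, ← Finset.sum_sub_distrib]
    refine Finset.sum_congr rfl fun i _ => ?_
    rw [map_add]
    by_cases hx : π i x = 0
    · rw [hx, zero_add, if_pos rfl]
      simp [hBdef, sympForm]
    by_cases hy : π i y = 0
    · rw [hy, add_zero, if_pos rfl]
      simp [hBdef, sympForm]
    by_cases hxy : π i x = π i y
    · rw [← hxy, hneg, if_neg hx, ← two_smul F (π i x), h2, zero_smul, if_pos rfl]
      linear_combination -h2
    · rw [hloc i _ (hπ.mem i x) _ (hπ.mem i y) hx hy hxy, if_neg hx, if_neg hy, if_neg (fun h0 => hxy (by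
        rw [add_eq_zero_iff_eq_neg.mp h0, ← neg_one_smul F (π i y), show (-1 : F) = 1 by linear_combination -h2,
          one_smul]))]
      linear_combination -h2
  have hle : fnStab (compCount π) ≤ spGL k F := by
    intro g hg x y
    show B ((g : Matrix _ _ F) *ᵥ x) ((g : Matrix _ _ F) *ᵥ y) = B x y
    rw [← hpolar, ← hpolar, ← Matrix.mulVec_add, hg, hg, hg]
  obtain ⟨g, hg, hg'⟩ := exists_mixing hπ hD.decomp.finrank_eq (Or.inr ⟨rfl, hq⟩) ht
  let i₀ : Fin t := ⟨0, by omega⟩
  let i₁ : Fin t := ⟨1, by omega⟩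
  have hi : i₀ ≠ i₁ := by simp [i₀, i₁]
  have hne : ∀ i, ∃ u ∈ D i, u ≠ 0 := fun i => (D i).ne_bot_iff.mp fun h0 => by
    have := hD.decomp.finrank_eq i
    rw [h0, finrank_bot] at this
    omega
  obtain ⟨a, ha, ha0⟩ := hne i₀
  obtain ⟨b, hb, hb0⟩ := hne i₁
  obtain ⟨⟨u, hu, hua⟩, -⟩ := hD.nondegenerate i₀ a ha ha0
  have hu0 : u ≠ 0 := fun h0 => hua (by rw [h0]; simp [hBdef, sympForm])
  have hua1 : B u a = 1 := (h01 _).resolve_left hua
  have hφ : (Matrix.J (Fin k) F *ᵥ (a + b)) ⬝ᵥ (a + b) = 0 := by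
    rw [dotProduct_comm]
    exact hneg (a + b)
  refine exists_between (K := fnStab (compCount π)) (inf_le_left.trans (stabilizer_le_fnStab hπ)) hle
    hg.1 (fun h0 => hg' h0.1) (tv_mem_spGL (a + b) hφ) (fun h0 => ?_)
  have h1 := h0 u
  have hφu : (Matrix.J (Fin k) F *ᵥ (a + b)) ⬝ᵥ u = 1 := by
    rw [dotProduct_comm]
    show B u (a + b) = 1
    rw [hadd_r, hua1, show B u b = 0 from hD.orthogonal i₀ i₁ hi u hu b hb, add_zero]
  rw [tv_mulVec, hφu, one_smul, ← add_assoc, compCount_of_mem hπ hu hu0] at h1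
  have hua2 : u + a ≠ 0 := by
    intro h0
    apply hua
    rw [add_eq_zero_iff_eq_neg.mp h0, ← neg_one_smul F a, hsmul_l, hneg, mul_zero]
  rw [compCount_of_pair hπ hi ((D i₀).add_mem hu ha) hua2 hb hb0] at h1
  exact one_ne_zero (show (1 : F) = 0 by linear_combination h1)

end Cfsg.Agent.Lib.NonMax
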