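import Cfsg.Agent.Lib.MaxClass.NotTop

/-!
Tools for showing that a subgroup of a classical group is not maximal: an intermediate subgroup together with
witnesses, components of a vector in a decomposition, and elements built from linear maps.
-/

set_option autoImplicit false

namespace Cfsg.Agent.Lib.NonMax

open Cfsg Cfsg.Geo Matrix
open scoped commutatorElement

variable {ι : Type} [Fintype ι] [DecidableEq ι] {F : Type*} [Field F]

/-- An intermediate subgroup from two witnesses. -/
theorem exists_between {G : Type*} [Group G] {H K S : Subgroup G} (hHK : H ≤ K) (hKS : K ≤ S) {g : G}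
    (hg : g ∈ K) (hg' : g ∉ H) {x : G} (hx : x ∈ S) (hx' : x ∉ K) : ∃ M : Subgroup G, H < M ∧ M < S :=
  ⟨K, SetLike.lt_iff_le_and_exists.mpr ⟨hHK, g, hg, hg'⟩, SetLike.lt_iff_le_and_exists.mpr ⟨hKS, x, hx, hx'⟩⟩

lemma inv_mulVec_mulVec (g : GL ι F) (v : ι → F) :
    ((g⁻¹ : GL ι F) : Matrix ι ι F) *ᵥ ((g : Matrix ι ι F) *ᵥ v) = v := by
  rw [Matrix.mulVec_mulVec, ← Units.val_mul, inv_mul_cancel, Units.val_one, Matrix.one_mulVec]

lemma mulVec_inv_mulVec (g : GL ι F) (v : ι → F) :
    (g : Matrix ι ι F) *ᵥ (((g⁻¹ : GL ι F) : Matrix ι ι F) *ᵥ v) = v := by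
  rw [Matrix.mulVec_mulVec, ← Units.val_mul, mul_inv_cancel, Units.val_one, Matrix.one_mulVec]

lemma mulVec_left_inj {g : GL ι F} {u v : ι → F}
    (h : (g : Matrix ι ι F) *ᵥ u = (g : Matrix ι ι F) *ᵥ v) : u = v := by
  rw [← inv_mulVec_mulVec g u, h, inv_mulVec_mulVec]

lemma mapsTo_of_mem_subspaceStabilizer {W : Submodule F (ι → F)} {g : GL ι F}
    (hg : g ∈ subspaceStabilizer W) {v : ι → F} (hv : v ∈ W) : (g : Matrix ι ι F) *ᵥ v ∈ W :=
  (hg v).mp hv

lemma mem_subspaceStabilizer_of_mapsTo {W : Submodule F (ι → F)} {g : GL ι F}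
    (h : ∀ v ∈ W, (g : Matrix ι ι F) *ᵥ v ∈ W) : g ∈ subspaceStabilizer W := by
  intro v
  refine ⟨h v, fun hv => ?_⟩
  let L : W →ₗ[F] W := (Matrix.toLin' (g : Matrix ι ι F)).restrict
    (p := W) (q := W) (fun x hx => by rw [Matrix.toLin'_apply]; exact h x hx)
  have hinj : Function.Injective L := fun a b hab => by
    have := congrArg Subtype.val hab
    simp only [L, LinearMap.coe_restrict_apply, Matrix.toLin'_apply] at this
    exact Subtype.ext (mulVec_left_inj this)
  obtain ⟨w, hw⟩ := (LinearMap.injective_iff_surjective.mp hinj) ⟨_, hv⟩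
  have := congrArg Subtype.val hw
  simp only [L, LinearMap.coe_restrict_apply, Matrix.toLin'_apply] at this
  exact (mulVec_left_inj (g := g) this) ▸ w.2

/-- The elements fixing a function on `F^ι`. -/
def fnStab {α : Type*} (f : (ι → F) → α) : Subgroup (GL ι F) where
  carrier := {g | ∀ x, f ((g : Matrix ι ι F) *ᵥ x) = f x}
  mul_mem' {a b} ha hb := fun x => by rw [Units.val_mul, ← Matrix.mulVec_mulVec, ha, hb]
  one_mem' := fun x => by simp
  inv_mem' {a} ha := fun x => by
    have h := ha (((a⁻¹ : GL ι F) : Matrix ι ι F) *ᵥ x)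
    rw [mulVec_inv_mulVec] at h
    exact h.symm

lemma mem_fnStab {α : Type*} {f : (ι → F) → α} {g : GL ι F} :
    g ∈ fnStab f ↔ ∀ x, f ((g : Matrix ι ι F) *ᵥ x) = f x := Iff.rfl

lemma commutator_mem_specialLinear (a b : GL ι F) : ⁅a, b⁆ ∈ specialLinear ι F := by
  show Matrix.GeneralLinearGroup.det ⁅a, b⁆ = 1
  rw [map_commutatorElement, commutatorElement_eq_one_iff_mul_comm, mul_comm]

/-- An injective linear map is given by an invertible matrix. -/
theorem exists_gl (L : (ι → F) →ₗ[F] (ι → F)) (hL : Function.Injective L) :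
    ∃ g : GL ι F, ∀ x, (g : Matrix ι ι F) *ᵥ x = L x := by
  have hu : IsUnit (LinearMap.toMatrix' L) := by
    rw [← Matrix.mulVec_injective_iff_isUnit]
    intro u v huv
    simp only [LinearMap.toMatrix'_mulVec] at huv
    exact hL huv
  exact ⟨hu.unit, fun x => by rw [IsUnit.unit_spec, LinearMap.toMatrix'_mulVec]⟩

/-- Component maps of a decomposition. -/
structure IsCompFamily {t : ℕ} (D : Fin t → Submodule F (ι → F))
    (π : Fin t → (ι → F) →ₗ[F] (ι → F)) : Prop where
  mem : ∀ i x, π i x ∈ D i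
  sum : ∀ x, ∑ i, π i x = x
  of_mem : ∀ i j (y : ι → F), y ∈ D j → π i y = if i = j then y else 0

theorem exists_compFamily {t : ℕ} {D : Fin t → Submodule F (ι → F)} (hind : iSupIndep D) (hsup : iSup D = ⊤) :
    ∃ π : Fin t → (ι → F) →ₗ[F] (ι → F), IsCompFamily D π := by
  classical
  have hint : DirectSum.IsInternal D := DirectSum.isInternal_submodule_of_iSupIndep_of_iSup_eq_top hind hsup
  let E := LinearEquiv.ofBijective (DirectSum.coeLinearMap D) hint
  refine ⟨fun i => (D i).subtype ∘ₗ DirectSum.component F (Fin t) (fun i => D i) i ∘ₗ E.symm.toLinearMap,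
    fun i x => Subtype.mem _, fun x => ?_, fun i j y hy => ?_⟩
  · conv_rhs => rw [← E.apply_symm_apply x]
    show _ = DirectSum.coeLinearMap D (E.symm x)
    conv_rhs => rw [← DirectSum.sum_univ_of (E.symm x), map_sum]
    refine Finset.sum_congr rfl fun i _ => ?_
    exact (DirectSum.coeLinearMap_of D i _).symm
  · have hE : E.symm y = DirectSum.of (fun i => D i) j ⟨y, hy⟩ := by
      rw [LinearEquiv.symm_apply_eq]
      exact (DirectSum.coeLinearMap_of D j ⟨y, hy⟩).symm
    show ((DirectSum.component F (Fin t) (fun i => D i) i (E.symm y) : D i) : ι → F) = _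
    rw [hE]
    by_cases hij : i = j
    · subst hij
      rw [if_pos rfl, ← DirectSum.apply_eq_component, DirectSum.of_eq_same]
    · rw [if_neg hij, ← DirectSum.apply_eq_component, DirectSum.of_eq_of_ne _ _ _ hij]
      rfl

namespace IsCompFamily

variable {t : ℕ} {D : Fin t → Submodule F (ι → F)} {π : Fin t → (ι → F) →ₗ[F] (ι → F)}

lemma comp_sum (h : IsCompFamily D π) {c : Fin t → (ι → F)} (hc : ∀ i, c i ∈ D i) (i : Fin t) :
    π i (∑ j, c j) = c i := by
  rw [map_sum, Finset.sum_eq_single i]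
  · rw [h.of_mem i i _ (hc i), if_pos rfl]
  · intro j _ hj
    rw [h.of_mem i j _ (hc j), if_neg (Ne.symm hj)]
  · simp

/-- An element permuting the members permutes the components. -/
lemma comp_perm (h : IsCompFamily D π) {g : GL ι F} {σ : Equiv.Perm (Fin t)}
    (hσ : ∀ i, (D i).map (Matrix.toLin' (g : Matrix ι ι F)) = D (σ i)) (i : Fin t) (x : ι → F) :
    π (σ i) ((g : Matrix ι ι F) *ᵥ x) = (g : Matrix ι ι F) *ᵥ π i x := by
  conv_lhs => rw [← h.sum x, Matrix.mulVec_sum, map_sum]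
  have hmem : ∀ j, (g : Matrix ι ι F) *ᵥ π j x ∈ D (σ j) := fun j => by
    rw [← hσ j]
    exact ⟨π j x, h.mem j x, Matrix.toLin'_apply _ _⟩
  rw [Finset.sum_eq_single i]
  · rw [h.of_mem _ _ _ (hmem i), if_pos rfl]
  · intro j _ hj
    rw [h.of_mem _ _ _ (hmem j), if_neg (fun e => hj (σ.injective e).symm)]
  · simp

end IsCompFamily

/-- An element of a decomposition stabiliser maps a member into a member. -/
lemma exists_member {t : ℕ} {D : Fin t → Submodule F (ι → F)} {g : GL ι F}
    (hg : g ∈ decompositionStabilizer D) {i : Fin t} {v : ι → F} (hv : v ∈ D i) :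
    ∃ j, (g : Matrix ι ι F) *ᵥ v ∈ D j := by
  obtain ⟨σ, hσ⟩ := hg
  exact ⟨σ i, hσ i ▸ ⟨v, hv, Matrix.toLin'_apply _ _⟩⟩

end Cfsg.Agent.Lib.NonMax
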