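import Cfsg.Agent.Lib.Aschbacher.Orthogonal

/-!
The standard odd-dimensional quadratic form is non-degenerate in odd characteristic.
-/

set_option autoImplicit false

namespace Cfsg.Agent.Lib.NonMax

open Cfsg Cfsg.Geo Matrix Cfsg.Agent.Lib.Aschbacher

variable {F : Type*} [Field F] [Fintype F]

theorem isNondegenerateQuadraticForm_odd (m : ℕ) (h2 : (2 : F) ≠ 0) :
    IsNondegenerateQuadraticForm (quadFormOdd m F) := by
  refine ⟨fun c v => ?_, ?_, ?_⟩
  · rw [← quadM_oddHalfMat]
    exact quadM_smul _ c v
  · rw [polar_quadFormOdd h2]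
    exact ⟨fun x y v => formM_add_left .., fun c x v => formM_smul_left .., fun v x y => formM_add_right ..,
      fun c v x => formM_smul_right ..⟩
  · rw [polar_quadFormOdd h2]
    exact nondegenerate_formM _ _

end Cfsg.Agent.Lib.NonMax
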