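import Cfsg.Agent.Lib.NonMax.OrthFrames
import Cfsg.Agent.Lib.Aschbacher.SympCases

/-!
Over three elements `Sp ⊗ O₃` is not maximal: `O₃(3)` is monomial.
-/

set_option autoImplicit false

namespace Cfsg.Agent.Lib.NonMax

open Cfsg Cfsg.Geo Matrix Cfsg.Agent.Lib.Aschbacher Cfsg.Agent.Lib.MaxClass
open scoped Kronecker

variable {F : Type*} [Field F] [Fintype F] {m : ℕ}

local notation "ιS" => (Fin m ⊕ Fin m)

lemma preserves_sympGram {g : GL ιS F} (hg : g ∈ spGL m F) :
    (g : Matrix ιS ιS F)ᵀ * (sympGram m F : Matrix ιS ιS F) * twist (RingEquiv.refl F) (g : Matrix ιS ιS F) =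
      (sympGram m F : Matrix ιS ιS F) := by
  refine formM_injective (RingEquiv.refl F) fun u v => ?_
  rw [← formM_mulVec, ← sympForm_eq]
  exact hg u v

theorem exists_between_symp_tensor (hq : Fintype.card F = 3) {n₁ : ℕ} (hn₁ : 0 < n₁) (e : ιS ≃ Fin n₁ × Fin 3)
    (P₀ : GL ιS F) (f₁ : (Fin n₁ → F) → (Fin n₁ → F) → F) (f₂ : (Fin 3 → F) → (Fin 3 → F) → F)
    (hf₁ : IsSymplecticForm f₁) (hf₂ : IsSymmetricForm f₂)
    (hT : IsTensorFormStructure id (sympForm m F) f₁ f₂ e P₀) :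
    ∃ K : Subgroup (GL ιS F), tensorProductSubgroup n₁ 3 e P₀ ⊓ spGL m F < K ∧ K < spGL m F := by
  classical
  haveI : Nonempty (Fin n₁) := ⟨⟨0, hn₁⟩⟩
  obtain ⟨G₁, hfG₁, hG₁⟩ := exists_gram_bilinear hf₁.bilinear hf₁.nondegenerate
  obtain ⟨G₂, -, hG₂⟩ := exists_gram_bilinear hf₂.bilinear hf₂.nondegenerate
  obtain ⟨β, u, hu, hβ⟩ := exists_congr_scalar (F := F) (by rw [hq]; decide) (d := 3) (by decide) G₂ (by
    ext i j
    rw [Matrix.transpose_apply, hG₂]
    exact hf₂.symm _ _)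
  obtain ⟨c, hc, hT⟩ := hT
  set P := tensorFrame e P₀ 1 β with hPdef
  set Δ : Matrix ιS ιS F :=
    (c * u) • ((G₁ : Matrix (Fin n₁) (Fin n₁) F) ⊗ₖ (1 : Matrix (Fin 3) (Fin 3) F)).submatrix e e with hΔ
  have hP₀ : (P₀ : Matrix ιS ιS F)ᵀ * (sympGram m F : Matrix ιS ιS F) * (P₀ : Matrix ιS ιS F) =
      c • ((G₁ : Matrix (Fin n₁) (Fin n₁) F) ⊗ₖ (G₂ : Matrix (Fin 3) (Fin 3) F)).submatrix e e := by
    refine formM_injective (RingEquiv.refl F) fun a b => ?_
    have h := hT (a ∘ e.symm) (b ∘ e.symm)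
    rw [show (a ∘ e.symm) ∘ e = a by ext; simp, show (b ∘ e.symm) ∘ e = b by ext; simp, sympForm_eq, formM_mulVec,
      show (id : F → F) = ⇑(RingEquiv.refl F) from rfl, formOfGram_eq, ← hG₁, ← hG₂, twist_refl] at h
    rw [h, formM_smul, ← formM_submatrix (RingEquiv.refl F) _ e (a ∘ e.symm) (b ∘ e.symm)]
    congr 2 <;> ext <;> simp
  have hP : (P : Matrix ιS ιS F)ᵀ * (sympGram m F : Matrix ιS ιS F) *
      twist (RingEquiv.refl F) (P : Matrix ιS ιS F) = Δ := by
    rw [twist_refl, hPdef, coe_tensorFrame, Matrix.transpose_mul]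
    calc _ = ((((1 : GL (Fin n₁) F) : Matrix (Fin n₁) (Fin n₁) F) ⊗ₖ (β : Matrix (Fin 3) (Fin 3) F)).submatrix e e)ᵀ *
          ((P₀ : Matrix ιS ιS F)ᵀ * (sympGram m F : Matrix ιS ιS F) * (P₀ : Matrix ιS ιS F)) *
          (((1 : GL (Fin n₁) F) : Matrix (Fin n₁) (Fin n₁) F) ⊗ₖ (β : Matrix (Fin 3) (Fin 3) F)).submatrix e e := by
          simp only [mul_assoc]
      _ = _ := by
          rw [hP₀, Matrix.mul_smul, Matrix.smul_mul, Matrix.transpose_submatrix, Matrix.submatrix_mul_equiv,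
            Matrix.submatrix_mul_equiv, ← Matrix.kroneckerMap_transpose, ← Matrix.mul_kronecker_mul,
            ← Matrix.mul_kronecker_mul, hβ, Units.val_one, Matrix.transpose_one, one_mul, mul_one,
            Matrix.kronecker_smul, hΔ, mul_smul]
          rfl
  let z : Fin n₁ := ⟨0, hn₁⟩
  have hG₁zz : (G₁ : Matrix (Fin n₁) (Fin n₁) F) z z = 0 := by rw [hG₁]; exact hf₁.alternating _
  obtain ⟨y, hy⟩ : ∃ y, (G₁ : Matrix (Fin n₁) (Fin n₁) F) y z ≠ 0 := by
    by_contra h
    push Not at h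
    have hdet : (G₁ : Matrix (Fin n₁) (Fin n₁) F).det = 0 := Matrix.det_eq_zero_of_column_eq_zero z h
    exact ((Matrix.isUnit_iff_isUnit_det _).mp G₁.isUnit).ne_zero hdet
  have hyz : y ≠ z := fun h => hy (by rw [h]; exact hG₁zz)
  let V : ιS → (ιS → F) := fun a => (P : Matrix ιS ιS F) *ᵥ Pi.single a 1
  let ix : Fin n₁ → Fin 3 → ιS := fun i j => e.symm (i, j)
  have hix : ∀ i j i' j', ix i j = ix i' j' ↔ i = i' ∧ j = j' := fun i j i' j' => by simp [ix, Prod.ext_iff]
  have hform : ∀ a b, sympForm m F (V a) (V b) = Δ a b := fun a b => by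
    simp only [V]
    rw [sympForm_eq, formM_mulVec, hP, formM_single]
  have hJ : ∀ w : ιS → F, (Matrix.J (Fin m) F *ᵥ w) ⬝ᵥ w = 0 := fun w => by
    rw [dotProduct_comm]
    exact sympGram_alternating w
  -- a transvection on the first block and one mixing two blocks
  obtain ⟨w₂, hw₂⟩ : ∃ w, w = V (ix z 0) + V (ix z 1) := ⟨_, rfl⟩
  set g := tv (V (ix z 0)) (Matrix.J (Fin m) F *ᵥ V (ix z 0)) (hJ _) with hgdef
  set x := tv w₂ (Matrix.J (Fin m) F *ᵥ w₂) (hJ _) with hxdef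
  have hgimg : ∀ b, coordsIn P g (ix z 0) b = (if ix z 0 = b then 1 else 0) + Δ b (ix z 0) ∧
      ∀ a, a ≠ ix z 0 → coordsIn P g a b = if a = b then 1 else 0 := by
    intro b
    have h := coordsIn_of_image (g := g) (P := P) (b := b)
      (x := Pi.single b 1 + Δ b (ix z 0) • Pi.single (ix z 0) 1) (by
        rw [hgdef, tv_mulVec, Matrix.mulVec_add, Matrix.mulVec_smul]
        congr 2
        rw [← hform, dotProduct_comm]
        rfl)
    refine ⟨?_, fun a ha => ?_⟩
    · rw [h]; simp [Pi.single_apply]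
    · rw [h]; simp [Pi.single_apply, ha]
  have hΔe : ∀ a b, Δ a b = c * u * ((G₁ : Matrix (Fin n₁) (Fin n₁) F) (e a).1 (e b).1 *
      if (e a).2 = (e b).2 then 1 else 0) := fun a b => by
    simp [hΔ, Matrix.one_apply]
  refine exists_between (K := decompositionStabilizer (blocks P (fun a => (e a).2)) ⊓ spGL m F)
    (fun h hh => ⟨?_, hh.2⟩) inf_le_right (g := g) ⟨?_, tv_mem_spGL _ _⟩ ?_ (tv_mem_spGL w₂ (hJ _)) (fun h => ?_)
  · obtain ⟨a, b, hab⟩ := (mem_tensor_iff e P₀ 1 β h).mp hh.1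
    have hX := coords_preserves (σ := RingEquiv.refl F) (g := h) hP (preserves_sympGram hh.2)
    rw [twist_refl, ← hPdef] at *
    rw [hab, hΔ, Matrix.mul_smul, Matrix.smul_mul, Matrix.transpose_submatrix, Matrix.submatrix_mul_equiv,
      Matrix.submatrix_mul_equiv, ← Matrix.kroneckerMap_transpose, ← Matrix.mul_kronecker_mul,
      ← Matrix.mul_kronecker_mul, mul_one] at hX
    have h1 : ((a : Matrix (Fin n₁) (Fin n₁) F)ᵀ * (G₁ : Matrix (Fin n₁) (Fin n₁) F) *
          (a : Matrix (Fin n₁) (Fin n₁) F)) ⊗ₖ ((b : Matrix (Fin 3) (Fin 3) F)ᵀ * (b : Matrix (Fin 3) (Fin 3) F)) =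
        (G₁ : Matrix (Fin n₁) (Fin n₁) F) ⊗ₖ (1 : Matrix (Fin 3) (Fin 3) F) := by
      ext p q
      have h0 := congrFun (congrFun hX (e.symm p)) (e.symm q)
      simp only [Matrix.submatrix_apply, Equiv.apply_symm_apply, Matrix.smul_apply, smul_eq_mul] at h0
      exact mul_left_cancel₀ (mul_ne_zero hc hu) h0
    obtain ⟨d, hd, -, hb⟩ := kronecker_eq_cases G₁.isUnit.ne_zero one_ne_zero h1
    have hd1 : d = 1 := by
      have hdet := congrArg Matrix.det hb
      rw [Matrix.det_smul, Matrix.det_mul, Matrix.det_transpose, Matrix.det_one, Fintype.card_fin,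
        sq_eq_one_of_three hq ((Matrix.isUnit_iff_isUnit_det _).mp b.isUnit).ne_zero, mul_one] at hdet
      have := sq_eq_one_of_three hq hd
      linear_combination hdet - d * this
    obtain ⟨π, hπ⟩ := exists_perm_of_monomial b fun j => existsUnique_of_squares hq le_rfl
      (x := fun i => (b : Matrix (Fin 3) (Fin 3) F) i j) (by
        have := congrFun (congrFun hb j) j
        simpa [Matrix.mul_apply, hd1] using this)
    refine mem_blockStab P _ π fun p q hpq => hπ _ _ fun h0 => hpq ?_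
    rw [hab]
    simp [h0]
  · refine mem_blockStab P _ (Equiv.refl _) fun a b hab => ?_
    by_contra hne
    apply hab
    have hab' : a ≠ b := fun h0 => hne (by rw [h0]; rfl)
    by_cases ha : a = ix z 0
    · subst ha
      rw [(hgimg b).1, if_neg hab', zero_add, hΔe]
      have : (e b).2 ≠ 0 := fun h0 => hne (by simp [ix, h0])
      simp [ix, this]
    · rw [(hgimg b).2 a ha, if_neg hab']
  · intro h
    obtain ⟨a, b, hab⟩ := (mem_tensor_iff e P₀ 1 β g).mp h.1
    rw [← hPdef] at hab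
    have hb0 : ∀ p q, coordsIn P g (ix p 0) (ix q 0) =
        (a : Matrix (Fin n₁) (Fin n₁) F) p q * (b : Matrix (Fin 3) (Fin 3) F) 0 0 := fun p q => by
      rw [hab]; simp [ix]
    have hb1 : ∀ p q, (a : Matrix (Fin n₁) (Fin n₁) F) p q * (b : Matrix (Fin 3) (Fin 3) F) 1 1 =
        if p = q then 1 else 0 := fun p q => by
      rw [← show coordsIn P g (ix p 1) (ix q 1) =
        (a : Matrix (Fin n₁) (Fin n₁) F) p q * (b : Matrix (Fin 3) (Fin 3) F) 1 1 by rw [hab]; simp [ix],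
        (hgimg _).2 _ (by simp [hix])]
      exact if_congr (by simp [hix]) rfl rfl
    have h1 := hb1 z y
    rw [if_neg hyz.symm] at h1
    have hb11 : (b : Matrix (Fin 3) (Fin 3) F) 1 1 ≠ 0 := fun h0 => by simpa [h0] using hb1 z z
    have h2 := hb0 z y
    rw [(mul_eq_zero.mp h1).resolve_right hb11, zero_mul, (hgimg _).1, if_neg (by simp [hix, hyz.symm]), zero_add,
      hΔe] at h2
    simp [ix, hc, hu, hy] at h2
  · have himg : ∀ a, coordsIn P x a (ix y 0) = (if a = ix y 0 then 1 else 0) +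
        c * u * (G₁ : Matrix (Fin n₁) (Fin n₁) F) y z *
          ((if a = ix z 0 then 1 else 0) + (if a = ix z 1 then 1 else 0)) := by
      intro a
      rw [coordsIn_of_image (g := x) (P := P) (b := ix y 0) (x := Pi.single (ix y 0) 1 +
        (c * u * (G₁ : Matrix (Fin n₁) (Fin n₁) F) y z) • (Pi.single (ix z 0) 1 + Pi.single (ix z 1) 1)) (by
          rw [hxdef, tv_mulVec, Matrix.mulVec_add, Matrix.mulVec_smul, Matrix.mulVec_add, ← hw₂]
          congr 2
          rw [dotProduct_comm]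
          show sympForm m F (V (ix y 0)) w₂ = _
          rw [hw₂, show sympForm m F (V (ix y 0)) (V (ix z 0) + V (ix z 1)) =
            sympForm m F (V (ix y 0)) (V (ix z 0)) + sympForm m F (V (ix y 0)) (V (ix z 1)) by
              simp [sympForm, Matrix.mulVec_add, dotProduct_add], hform, hform, hΔe, hΔe]
          simp [ix]) a]
      simp [Pi.single_apply, mul_add]
    refine not_mem_blockStab (g := x) (a := ix y 0) (a' := ix z 1) (b := ix y 0) ?_ ?_ (by simp [ix]) h.1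
    · rw [himg]
      simp [hix, hyz]
    · rw [himg]
      simp [hix, hc, hu, hy]

end Cfsg.Agent.Lib.NonMax
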