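import Cfsg.Agent.Lib.NonMax.Frame

/-!
Over two elements the stabiliser of `2 ⊗ n₂` normalises a field of four elements.
-/

set_option autoImplicit false

namespace Cfsg.Agent.Lib.NonMax

open Cfsg Cfsg.Geo Matrix Cfsg.Agent.Lib.Aschbacher Cfsg.Agent.Lib.MaxClass
open scoped Kronecker

variable {ι : Type} [Fintype ι] [DecidableEq ι] {F : Type*} [Field F]

/-- The elements conjugating `u` to itself or its inverse. -/
def conjPair (u : GL ι F) : Subgroup (GL ι F) where
  carrier := {g | g * u * g⁻¹ = u ∨ g * u * g⁻¹ = u⁻¹}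
  one_mem' := Or.inl (by simp)
  inv_mem' {g} h := by
    rcases h with h | h
    · exact Or.inl (by conv_lhs => rw [← h]
                       group)
    · refine Or.inr ?_
      have h' := congrArg (fun z => g⁻¹ * z⁻¹ * g) h
      simp only [inv_inv] at h' ⊢
      rw [← h']
      group
  mul_mem' {g k} hg hk := by
    have e : g * k * u * (g * k)⁻¹ = g * (k * u * k⁻¹) * g⁻¹ := by group
    show _ ∨ _
    rcases hk with hk | hk <;> rw [e, hk]
    · exact hg
    · have e' : g * u⁻¹ * g⁻¹ = (g * u * g⁻¹)⁻¹ := by group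
      rw [e']
      rcases hg with hg | hg
      · exact Or.inr (by rw [hg])
      · exact Or.inl (by rw [hg, inv_inv])

lemma conj_mem_conjPair {P u k : GL ι F} (h : P * k * P⁻¹ ∈ conjPair (P * u * P⁻¹)) : k ∈ conjPair u := by
  show _ ∨ _
  rcases h with h | h
  · left
    have := congrArg (fun z => P⁻¹ * z * P) h
    simpa [mul_assoc] using this
  · right
    have := congrArg (fun z => P⁻¹ * z * P) h
    simpa [mul_assoc] using this

theorem exists_between_tensor_two [Fintype F] (hq : Fintype.card F = 2) {n₂ : ℕ} (h2 : 2 ≤ n₂)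
    (e : ι ≃ Fin 2 × Fin n₂) (P : GL ι F) :
    ∃ K : Subgroup (GL ι F), tensorProductSubgroup 2 n₂ e P ⊓ specialLinear ι F < K ∧ K < specialLinear ι F := by
  have h01 : ∀ z : F, z = 0 ∨ z = 1 := fun z => by
    rcases eq_or_ne z 0 with hz | hz
    · exact Or.inl hz
    · have := FiniteField.pow_card_sub_one_eq_one z hz
      rw [hq] at this
      exact Or.inr (by simpa using this)
  have hsl : ∀ g : GL ι F, g ∈ specialLinear ι F := fun g => by
    show Matrix.GeneralLinearGroup.det g = 1
    exact Units.ext ((h01 _).resolve_left (Units.ne_zero _))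
  have hc2 : (2 : F) = 0 := by
    have h := Nat.cast_card_eq_zero F
    rw [hq] at h
    exact_mod_cast h
  have h11 : (1 : F) + 1 = 0 := by rw [one_add_one_eq_two, hc2]
  let a₀ : GL (Fin 2) F := ⟨!![0, 1; 1, 1], !![1, 1; 1, 0],
    by ext i j; fin_cases i <;> fin_cases j <;> simp [Matrix.mul_apply, Fin.sum_univ_two, h11],
    by ext i j; fin_cases i <;> fin_cases j <;> simp [Matrix.mul_apply, Fin.sum_univ_two, h11]⟩
  have ha₀ : ∀ a : GL (Fin 2) F, a * a₀ * a⁻¹ = a₀ ∨ a * a₀ * a⁻¹ = a₀⁻¹ := by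
    intro a
    set x := a * a₀ * a⁻¹ with hx
    have hx2 : x * x = a * (a₀ * a₀) * a⁻¹ := by rw [hx]; group
    have hsq : (x : Matrix (Fin 2) (Fin 2) F) * (x : Matrix (Fin 2) (Fin 2) F) =
        (x : Matrix (Fin 2) (Fin 2) F) + 1 := by
      rw [← Units.val_mul, hx2, hx, Units.val_mul, Units.val_mul, Units.val_mul, Units.val_mul, Units.val_mul,
        show (a₀ : Matrix (Fin 2) (Fin 2) F) * (a₀ : Matrix (Fin 2) (Fin 2) F) =
          (a₀ : Matrix (Fin 2) (Fin 2) F) + 1 by
            ext i j; fin_cases i <;> fin_cases j <;> simp [a₀, Matrix.mul_apply, Fin.sum_univ_two, h11],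
        mul_add, add_mul, mul_one, Units.mul_inv]
    have e00 := congrFun (congrFun hsq 0) 0
    have e01 := congrFun (congrFun hsq 0) 1
    have e10 := congrFun (congrFun hsq 1) 0
    have e11 := congrFun (congrFun hsq 1) 1
    simp only [Matrix.mul_apply, Fin.sum_univ_two, Matrix.add_apply, Matrix.one_apply_eq] at e00 e11
    simp only [Matrix.mul_apply, Fin.sum_univ_two, Matrix.add_apply,
      Matrix.one_apply_ne (show (0 : Fin 2) ≠ 1 by decide), Matrix.one_apply_ne (show (1 : Fin 2) ≠ 0 by decide)]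
      at e01 e10
    set p := (x : Matrix (Fin 2) (Fin 2) F) 0 0 with hp
    set q := (x : Matrix (Fin 2) (Fin 2) F) 0 1 with hq'
    set r := (x : Matrix (Fin 2) (Fin 2) F) 1 0 with hr
    set s := (x : Matrix (Fin 2) (Fin 2) F) 1 1 with hs
    have hne : (1 : F) ≠ 0 := one_ne_zero
    rcases h01 p with hp0 | hp0 <;> rcases h01 q with hq0 | hq0 <;> rcases h01 r with hr0 | hr0 <;>
      rcases h01 s with hs0 | hs0 <;> simp [hp0, hq0, hr0, hs0, h11] at e00 e01 e10 e11 <;>
      first
        | (left; apply Units.ext; ext i j; fin_cases i <;> fin_cases j <;>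
            solve | simp [a₀, ← hp, ← hq', ← hr, ← hs, hp0, hq0, hr0, hs0])
        | (right; apply Units.ext; ext i j; fin_cases i <;> fin_cases j <;>
            solve | simp [a₀, ← hp, ← hq', ← hr, ← hs, hp0, hq0, hr0, hs0, Units.inv_mk])
  have hmul : ∀ (x x' : GL (Fin 2) F) (y y' : GL (Fin n₂) F),
      glReindex e.symm (kronUnit x y) * glReindex e.symm (kronUnit x' y') =
        glReindex e.symm (kronUnit (x * x') (y * y')) := fun x x' y y' => by
    rw [← map_mul]
    exact congrArg _ (Units.ext (by simp [kronUnit, Matrix.mul_kronecker_mul]))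
  set U : GL ι F := glReindex e.symm (kronUnit a₀ 1) with hU
  have hUinv : U⁻¹ = glReindex e.symm (kronUnit a₀⁻¹ 1) := by
    rw [hU, ← map_inv]
    exact congrArg _ (Units.ext (by simp [kronUnit]))
  let z : Fin n₂ := ⟨0, by omega⟩
  let o : Fin n₂ := ⟨1, by omega⟩
  have hzo : z ≠ o := by simp [z, o]
  set E : Matrix (Fin n₂) (Fin n₂) F := Matrix.single z z 1 with hE
  have hEE : E * E = E := by simp [hE]
  have hp : (1 - E) * (1 - E) = 1 - E := by rw [mul_sub, sub_mul, sub_mul, hEE]; simp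
  have hpE : (1 - E) * E = 0 := by rw [sub_mul, one_mul, hEE, sub_self]
  have hEp : E * (1 - E) = 0 := by rw [mul_sub, mul_one, hEE, sub_self]
  let M : GL (Fin 2) F → Matrix (Fin 2 × Fin n₂) (Fin 2 × Fin n₂) F := fun a =>
    (1 : Matrix (Fin 2) (Fin 2) F) ⊗ₖ (1 - E) + (a : Matrix (Fin 2) (Fin 2) F) ⊗ₖ E
  have hM : ∀ a b : GL (Fin 2) F, M a * M b = M (a * b) := fun a b => by
    simp only [M, add_mul, mul_add, ← Matrix.mul_kronecker_mul, hp, hpE, hEp, hEE, Matrix.kronecker_zero, one_mul,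
      mul_one, add_zero, zero_add, Units.val_mul]
  have hM1 : M 1 = 1 := by
    simp only [M, Units.val_one, ← Matrix.kronecker_add, sub_add_cancel, Matrix.one_kronecker_one]
  let kk : GL (Fin 2 × Fin n₂) F := ⟨M a₀, M a₀⁻¹, by rw [hM, mul_inv_cancel, hM1], by rw [hM, inv_mul_cancel, hM1]⟩
  set k : GL ι F := glReindex e.symm kk with hk
  have hkU : k * U * k⁻¹ = U := by
    rw [mul_inv_eq_iff_eq_mul, hk, hU, ← map_mul, ← map_mul]
    refine congrArg _ (Units.ext ?_)
    simp only [kk, kronUnit, M, Units.val_mul, Units.val_one, add_mul, mul_add, ← Matrix.mul_kronecker_mul, one_mul,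
      mul_one]
  have hframe : tensorFrame e P 1 1 = P := by
    apply Units.ext
    rw [coe_tensorFrame]
    simp
  refine exists_between (K := conjPair (P * U * P⁻¹)) (g := P * k * P⁻¹)
    (fun g hg => ?_) (fun g _ => hsl g) (Or.inl ?_) (fun h => ?_) (hsl (P * tv (Pi.single (e.symm (0, z)) 1)
      (Pi.single (e.symm (1, o)) 1) (by simp [hzo]) * P⁻¹)) (fun h => ?_)
  · obtain ⟨a, b, hab⟩ := (mem_tensor_iff e P 1 1 g).mp hg.1
    rw [hframe] at hab
    have e1 : g = P * glReindex e.symm (kronUnit a b) * P⁻¹ := by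
      rw [show glReindex e.symm (kronUnit a b) = P⁻¹ * g * P from Units.ext (by
        rw [show ((P⁻¹ * g * P : GL ι F) : Matrix ι ι F) = coordsIn P g from rfl, hab]
        simp [kronUnit, glReindex, Matrix.reindex_apply])]
      group
    have e2 : glReindex e.symm (kronUnit a b) * U * (glReindex e.symm (kronUnit a b))⁻¹ =
        glReindex e.symm (kronUnit (a * a₀ * a⁻¹) 1) := by
      rw [mul_inv_eq_iff_eq_mul, hU, hmul, hmul, inv_mul_cancel_right, mul_one, one_mul]
    show _ ∨ _
    rcases ha₀ a with h | h <;> rw [h] at e2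
    · left
      rw [e1]
      conv_rhs => rw [hU, ← e2]
      group
    · right
      rw [← hUinv] at e2
      rw [e1, show (P * U * P⁻¹)⁻¹ = P * U⁻¹ * P⁻¹ by group, ← e2]
      group
  · show P * k * P⁻¹ * (P * U * P⁻¹) * (P * k * P⁻¹)⁻¹ = P * U * P⁻¹
    rw [show P * k * P⁻¹ * (P * U * P⁻¹) * (P * k * P⁻¹)⁻¹ = P * (k * U * k⁻¹) * P⁻¹ by group, hkU]
  · refine absurd h.1 (not_tensor (β := 1) (γ := 1) (i₀ := 1) (i₁ := 0) (j₀ := o) (j := z) (l := z) ?_ ?_)
    · intro u v
      rw [hframe, coordsIn_conj]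
      simp [k, kk, M, glReindex, Matrix.reindex_apply, a₀, Matrix.add_apply, hE, Matrix.one_apply]
    · rw [hframe, coordsIn_conj, if_pos rfl]
      simp [k, kk, M, glReindex, Matrix.reindex_apply, a₀, Matrix.add_apply, hE, Matrix.one_apply, hzo]
  · set T : GL ι F := tv (Pi.single (e.symm (0, z)) 1) (Pi.single (e.symm (1, o)) 1) (by simp [hzo]) with hT
    have hp' : e.symm ((1 : Fin 2), o) ≠ e.symm ((0 : Fin 2), z) := by simp
    rcases conj_mem_conjPair h with h' | h' <;> rw [mul_inv_eq_iff_eq_mul] at h'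
    · have h1 := congrFun (congrFun (congrArg (fun g : GL ι F => (g : Matrix ι ι F)) h') (e.symm (0, z))) (e.symm (1, o))
      simp [hT, coe_tv, hU, kronUnit, glReindex, Matrix.reindex_apply, a₀, Matrix.add_mul, Matrix.mul_add,
        Matrix.vecMulVec_mul, Matrix.mul_vecMulVec, Matrix.vecMulVec_apply, Matrix.mulVec_single,
        Matrix.single_vecMul, Matrix.one_apply, hzo, Ne.symm hzo, hp', hp'.symm] at h1
    · rw [hUinv] at h'
      have h1 := congrFun (congrFun (congrArg (fun g : GL ι F => (g : Matrix ι ι F)) h') (e.symm (0, z))) (e.symm (0, z))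
      simp [hT, coe_tv, hU, kronUnit, glReindex, Matrix.reindex_apply, a₀, Matrix.add_mul, Matrix.mul_add,
        Matrix.vecMulVec_mul, Matrix.mul_vecMulVec, Matrix.vecMulVec_apply, Matrix.mulVec_single,
        Matrix.single_vecMul, Matrix.one_apply, hzo, Ne.symm hzo, hp', hp'.symm] at h1

end Cfsg.Agent.Lib.NonMax
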