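import Cfsg.Agent.Lib.NonMax.Frame
import Cfsg.Agent.Lib.NonMax.Decomp
import Cfsg.Agent.Lib.Aschbacher.FormBasis
import Cfsg.Agent.Lib.Forms.Bridge

/-!
Over four elements the unitary group of degree two is monomial, so the stabilisers built from it are not maximal.
-/

set_option autoImplicit false

namespace Cfsg.Agent.Lib.NonMax

open Cfsg Cfsg.Geo Matrix Cfsg.Agent.Lib.Aschbacher Cfsg.Agent.Lib.MaxClass
open scoped Kronecker

variable {F : Type*} [Field F] [Fintype F]

/-- The involution of the field with four elements. -/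
theorem exists_sigma (hF : Fintype.card F = 4) :
    ∃ σ : F ≃+* F, (∀ a, σ a = a ^ 2) ∧ (∀ a, σ (σ a) = a) ∧ σ ≠ RingEquiv.refl F ∧ (2 : F) = 0 ∧
      ∀ a, a ≠ 0 → a * σ a = 1 := by
  have hF' : Fintype.card F = 2 ^ 2 := by rw [hF]; norm_num
  have h4 : ∀ a : F, a ^ 4 = a := fun a => hF ▸ FiniteField.pow_card a
  have hbij : Function.Bijective (Forms.qPowHom hF') := Function.Involutive.bijective fun a => by
    simp only [Forms.qPowHom_apply]
    rw [← pow_mul]
    exact h4 a
  have h2 : (2 : F) = 0 := by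
    rcases two_three_four (F := F) (by omega) with ⟨hc, -⟩ | ⟨hc, -⟩ | ⟨-, h⟩ <;> first | exact h | omega
  refine ⟨RingEquiv.ofBijective (Forms.qPowHom hF') hbij, fun a => Forms.qPowHom_apply hF' a, fun a => ?_, ?_, h2,
    fun a ha => ?_⟩
  · show Forms.qPowHom hF' (Forms.qPowHom hF' a) = a
    simp only [Forms.qPowHom_apply]
    rw [← pow_mul]
    exact h4 a
  · intro h
    classical
    have h01 : ∀ a : F, a = 0 ∨ a = 1 := fun a => by
      have h' : a ^ 2 = a := (Forms.qPowHom_apply hF' a).symm.trans (RingEquiv.congr_fun h a)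
      exact mul_eq_zero.mp (show a * (a - 1) = 0 by linear_combination h') |>.imp id sub_eq_zero.mp
    have : Fintype.card F ≤ 2 :=
      le_trans (Finset.card_le_card (s := Finset.univ) (t := ({0, 1} : Finset F)) fun a _ => by simpa using h01 a)
        Finset.card_le_two
    omega
  · show a * Forms.qPowHom hF' a = 1
    have h3 := FiniteField.pow_card_sub_one_eq_one a ha
    rw [hF] at h3
    rw [Forms.qPowHom_apply, ← h3]
    ring

variable {n : ℕ}

lemma mem_GU_iff {σ : F ≃+* F} (hσ : ∀ a, σ a = a ^ 2) {g : GL (Fin n) F} :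
    g ∈ GU n F 2 ↔ (g : Matrix (Fin n) (Fin n) F)ᵀ * twist σ (g : Matrix (Fin n) (Fin n) F) = 1 := by
  have hherm : hermForm n F 2 = formM σ (1 : Matrix (Fin n) (Fin n) F) := by
    funext u v
    simp [hermForm, formM, dotProduct, hσ]
  constructor
  · intro h
    have h' : formM σ ((g : Matrix (Fin n) (Fin n) F)ᵀ * 1 * twist σ (g : Matrix (Fin n) (Fin n) F)) =
        formM σ (1 : Matrix (Fin n) (Fin n) F) := by
      funext u v
      rw [← formM_mulVec, ← hherm]
      exact h u v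
    have := formM_injective σ (fun u v => congrFun (congrFun h' u) v)
    rwa [mul_one] at this
  · intro h u v
    show hermForm n F 2 ((g : Matrix (Fin n) (Fin n) F) *ᵥ u) ((g : Matrix (Fin n) (Fin n) F) *ᵥ v) = _
    rw [hherm, formM_mulVec, mul_one, h]

/-- An isotropic vector with entries zero and one gives a transvection in `SU`. -/
theorem exists_transvection {σ : F ≃+* F} (hσ : ∀ a, σ a = a ^ 2) (h2 : (2 : F) = 0) {B : GL (Fin n) F} {c : F}
    (hB : (B : Matrix (Fin n) (Fin n) F)ᵀ * twist σ (B : Matrix (Fin n) (Fin n) F) =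
      c • (1 : Matrix (Fin n) (Fin n) F))
    (w : Fin n → F) (hw01 : ∀ i, w i = 0 ∨ w i = 1) (hw : w ⬝ᵥ w = 0) :
    ∃ g : GL (Fin n) F, g ∈ GU n F 2 ⊓ specialLinear (Fin n) F ∧
      coordsIn B g = 1 + vecMulVec w w := by
  refine ⟨B * tv w w hw * B⁻¹, ⟨?_, ?_⟩, ?_⟩
  · show B * tv w w hw * B⁻¹ ∈ GU n F 2
    rw [mem_GU_iff hσ]
    have htw : twist σ (tv w w hw : Matrix (Fin n) (Fin n) F) = (tv w w hw : Matrix (Fin n) (Fin n) F) := by
      ext i j
      rcases hw01 i with hi | hi <;> rcases hw01 j with hj | hj <;>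
        by_cases hij : i = j <;>
        simp [coe_tv, twist, Matrix.vecMulVec_apply, hi, hj, hij, hσ, one_add_one_eq_two, h2]
    have h := preserves_conj (σ := σ) (G := (1 : GL (Fin n) F)) (B := B) (k := tv w w hw)
      (Δ := c • (1 : Matrix (Fin n) (Fin n) F)) (by rw [Units.val_one, mul_one]; exact hB) (by
        rw [htw, Matrix.mul_smul, mul_one, Matrix.smul_mul, coe_tv, Matrix.transpose_add, Matrix.transpose_one,
          Matrix.transpose_vecMulVec]
        simp only [add_mul, mul_add, one_mul, mul_one, vecMulVec_mul_vecMulVec, hw]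
        congr 1
        ext i j
        simp only [Matrix.add_apply, Matrix.vecMulVec_apply, Pi.smul_apply, smul_eq_mul, zero_smul, Pi.zero_apply]
        linear_combination (w i * w j) * h2)
    rwa [Units.val_one, mul_one] at h
  · show Matrix.GeneralLinearGroup.det (B * tv w w hw * B⁻¹) = 1
    rw [map_mul, map_mul, show Matrix.GeneralLinearGroup.det (tv w w hw) = 1 from tv_mem_specialLinear w w hw,
      mul_one, map_inv, mul_inv_cancel]
  · rw [coordsIn_conj, coe_tv]

/-- Two norms summing to a non-zero element of the prime field. -/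
lemma existsUnique_of_norms {σ : F ≃+* F} (h2 : (2 : F) = 0) (hN : ∀ a : F, a ≠ 0 → a * σ a = 1) {c : F}
    (hc : c ≠ 0) {x : Fin 2 → F} (hx : x 0 * σ (x 0) + x 1 * σ (x 1) = c) : ∃! u, x u ≠ 0 := by
  by_cases h0 : x 0 = 0
  · refine ⟨1, fun h1 => hc ?_, fun u hu => ?_⟩
    · rw [← hx, h0, show x 1 = 0 from h1]; ring
    · fin_cases u
      · exact absurd h0 hu
      · rfl
  · refine ⟨0, h0, fun u hu => ?_⟩
    fin_cases u
    · rfl
    · have hu' : x 1 ≠ 0 := hu
      exact absurd (hx.symm.trans (by rw [hN _ h0, hN _ hu', one_add_one_eq_two, h2])) hc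

theorem exists_between_unitary_tensor (hF : Fintype.card F = 4) (hn : 13 ≤ n) {n₂ : ℕ}
    (e : Fin n ≃ Fin 2 × Fin n₂) (P : GL (Fin n) F) (f₁ : (Fin 2 → F) → (Fin 2 → F) → F)
    (f₂ : (Fin n₂ → F) → (Fin n₂ → F) → F) (hf₁ : IsUnitaryFormPow 2 f₁) (hf₂ : IsUnitaryFormPow 2 f₂)
    (hT : IsTensorFormStructure (fun x : F => x ^ 2) (hermForm n F 2) f₁ f₂ e P) :
    ∃ K : Subgroup (GL (Fin n) F), tensorProductSubgroup 2 n₂ e P ⊓ (GU n F 2 ⊓ specialLinear (Fin n) F) < K ∧
      K < GU n F 2 ⊓ specialLinear (Fin n) F := by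
  obtain ⟨σ, hσ, hinv, hne, h2, hN⟩ := exists_sigma hF
  have hn2 : 7 ≤ n₂ := by
    have := Fintype.card_congr e
    simp only [Fintype.card_fin, Fintype.card_prod] at this
    omega
  have hgram : ∀ (d : ℕ) (f : (Fin d → F) → (Fin d → F) → F), IsUnitaryFormPow 2 f → ∃ G : GL (Fin d) F,
      (G : Matrix (Fin d) (Fin d) F) = gramMatrix f ∧ ∃ b : GL (Fin d) F,
        (b : Matrix (Fin d) (Fin d) F)ᵀ * (G : Matrix (Fin d) (Fin d) F) * twist σ (b : Matrix (Fin d) (Fin d) F) = 1 := by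
    intro d f hf
    obtain ⟨G, hfG, hG⟩ := exists_gram (σ := σ) hf.add_left hf.smul_left
      (fun v x y => by
        rw [hf.herm, hf.add_left, ← hσ, map_add, hσ, hσ, ← hf.herm, ← hf.herm])
      (fun c v x => by rw [hf.herm, hf.smul_left, mul_pow, ← hf.herm, hσ]) hf.nondegenerate
    refine ⟨G, hG, exists_congr_one hne G ⟨hinv, ?_⟩⟩
    ext i j
    simp [hG, gramMatrix, twist, hσ, ← hf.herm]
  obtain ⟨G₁, hG₁, b₁, hb₁⟩ := hgram 2 f₁ hf₁
  obtain ⟨G₂, hG₂, b₂, hb₂⟩ := hgram n₂ f₂ hf₂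
  obtain ⟨c, hc, hT⟩ := hT
  set B := tensorFrame e P b₁ b₂ with hBdef
  have hP : (P : Matrix (Fin n) (Fin n) F)ᵀ * twist σ (P : Matrix (Fin n) (Fin n) F) =
      c • ((G₁ : Matrix (Fin 2) (Fin 2) F) ⊗ₖ (G₂ : Matrix (Fin n₂) (Fin n₂) F)).submatrix e e := by
    refine formM_injective σ fun u v => ?_
    have h := hT (u ∘ e.symm) (v ∘ e.symm)
    rw [show (u ∘ e.symm) ∘ e = u by ext; simp, show (v ∘ e.symm) ∘ e = v by ext; simp,
      show hermForm n F 2 = formM σ (1 : Matrix (Fin n) (Fin n) F) by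
        funext a b; simp [hermForm, formM, dotProduct, hσ],
      formM_mulVec, mul_one, show (fun x : F => x ^ 2) = ⇑σ from funext fun x => (hσ x).symm, formOfGram_eq,
      ← hG₁, ← hG₂] at h
    rw [h, formM_smul, ← formM_submatrix σ _ e (u ∘ e.symm) (v ∘ e.symm)]
    congr 2 <;> ext <;> simp
  have hB : (B : Matrix (Fin n) (Fin n) F)ᵀ * twist σ (B : Matrix (Fin n) (Fin n) F) =
      c • (1 : Matrix (Fin n) (Fin n) F) := by
    rw [hBdef, coe_tensorFrame, Matrix.transpose_mul, twist_mul]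
    calc _ = (((b₁ : Matrix (Fin 2) (Fin 2) F) ⊗ₖ (b₂ : Matrix (Fin n₂) (Fin n₂) F)).submatrix e e)ᵀ *
          ((P : Matrix (Fin n) (Fin n) F)ᵀ * twist σ (P : Matrix (Fin n) (Fin n) F)) *
          twist σ (((b₁ : Matrix (Fin 2) (Fin 2) F) ⊗ₖ (b₂ : Matrix (Fin n₂) (Fin n₂) F)).submatrix e e) := by
          simp only [mul_assoc]
      _ = _ := by
          rw [hP, Matrix.mul_smul, Matrix.smul_mul, Matrix.transpose_submatrix, twist, ← Matrix.submatrix_map,
            Matrix.submatrix_mul_equiv, Matrix.submatrix_mul_equiv, ← Matrix.kroneckerMap_transpose,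
            show ((b₁ : Matrix (Fin 2) (Fin 2) F) ⊗ₖ (b₂ : Matrix (Fin n₂) (Fin n₂) F)).map σ =
              twist σ (b₁ : Matrix (Fin 2) (Fin 2) F) ⊗ₖ twist σ (b₂ : Matrix (Fin n₂) (Fin n₂) F) by
                ext ⟨i, k⟩ ⟨j, l⟩; simp,
            ← Matrix.mul_kronecker_mul, ← Matrix.mul_kronecker_mul, hb₁, hb₂, Matrix.one_kronecker_one,
            Matrix.submatrix_one_equiv]
  let z : Fin n₂ := ⟨0, by omega⟩
  let o : Fin n₂ := ⟨1, by omega⟩
  have hzo : z ≠ o := by simp [z, o]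
  let w₁ : Fin n → F := fun i => if (e i).1 = 0 ∧ ((e i).2 = z ∨ (e i).2 = o) then 1 else 0
  let w₂ : Fin n → F := fun i => if (e i).2 = z ∨ (e i).2 = o then 1 else 0
  have hw : ∀ w : Fin n → F, w ⬝ᵥ w = ∑ p : Fin 2 × Fin n₂, w (e.symm p) * w (e.symm p) := fun w =>
    (Equiv.sum_comp e.symm (fun i => w i * w i)).symm
  have hw₁ : w₁ ⬝ᵥ w₁ = 0 := by
    rw [hw, Fintype.sum_prod_type, Fin.sum_univ_two, Finset.sum_eq_add z o hzo]
    · simp [w₁, hzo, Ne.symm hzo, one_add_one_eq_two, h2]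
    · intro k _ hk; simp [w₁, hk.1, hk.2]
    · simp
    · simp
  have hw₂ : w₂ ⬝ᵥ w₂ = 0 := by
    rw [hw, Fintype.sum_prod_type, Fin.sum_univ_two]
    have : ∀ i : Fin 2, ∑ k, w₂ (e.symm (i, k)) * w₂ (e.symm (i, k)) = 2 := fun i => by
      rw [Finset.sum_eq_add z o hzo]
      · simp [w₂, hzo, Ne.symm hzo, one_add_one_eq_two]
      · intro k _ hk; simp [w₂, hk.1, hk.2]
      · simp
      · simp
    rw [this, this, h2, add_zero]
  obtain ⟨g, hg, hgc⟩ := exists_transvection hσ h2 hB w₁ (fun i => by simp only [w₁]; split_ifs <;> simp) hw₁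
  obtain ⟨x, hx, hxc⟩ := exists_transvection hσ h2 hB w₂ (fun i => by simp only [w₂]; split_ifs <;> simp) hw₂
  refine exists_between (K := decompositionStabilizer (blocks B (fun i => (e i).1)) ⊓
    (GU n F 2 ⊓ specialLinear (Fin n) F)) (fun y hy => ⟨?_, hy.2⟩) inf_le_right (g := g) ⟨?_, hg⟩ ?_ hx
    (fun h => ?_)
  · obtain ⟨a, b, hab⟩ := (mem_tensor_iff e P b₁ b₂ y).mp hy.1
    have hiso := coords_preserves (σ := σ) (G := (1 : GL (Fin n) F)) (B := B) (g := y)
      (Δ := c • (1 : Matrix (Fin n) (Fin n) F)) (by rw [Units.val_one, mul_one]; exact hB)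
      (by rw [Units.val_one, mul_one]; exact (mem_GU_iff hσ).mp hy.2.1)
    rw [hBdef, hab, Matrix.mul_smul, mul_one, Matrix.smul_mul, Matrix.transpose_submatrix, twist,
      ← Matrix.submatrix_map, Matrix.submatrix_mul_equiv, ← Matrix.kroneckerMap_transpose,
      show ((a : Matrix (Fin 2) (Fin 2) F) ⊗ₖ (b : Matrix (Fin n₂) (Fin n₂) F)).map σ =
        twist σ (a : Matrix (Fin 2) (Fin 2) F) ⊗ₖ twist σ (b : Matrix (Fin n₂) (Fin n₂) F) by
          ext ⟨i, k⟩ ⟨j, l⟩; simp, ← Matrix.mul_kronecker_mul] at hiso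
    have h1 : ((a : Matrix (Fin 2) (Fin 2) F)ᵀ * twist σ (a : Matrix (Fin 2) (Fin 2) F)) ⊗ₖ
        ((b : Matrix (Fin n₂) (Fin n₂) F)ᵀ * twist σ (b : Matrix (Fin n₂) (Fin n₂) F)) =
        (1 : Matrix (Fin 2) (Fin 2) F) ⊗ₖ (1 : Matrix (Fin n₂) (Fin n₂) F) := by
      rw [Matrix.one_kronecker_one]
      ext p q
      have := congrFun (congrFun (smul_right_injective _ hc hiso) (e.symm p)) (e.symm q)
      simpa [Matrix.one_apply] using this
    haveI : Nonempty (Fin n₂) := ⟨z⟩
    obtain ⟨d, hd, ha, -⟩ := kronecker_eq_cases one_ne_zero one_ne_zero h1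
    obtain ⟨π, hπ⟩ := exists_perm_of_monomial a fun j => existsUnique_of_norms h2 hN hd
      (x := fun i => (a : Matrix (Fin 2) (Fin 2) F) i j) (by
        have := congrFun (congrFun ha j) j
        simpa [Matrix.mul_apply, Fin.sum_univ_two, twist] using this)
    exact tensor_mem_blockStab hab π hπ
  · refine mem_blockStab B _ (Equiv.refl _) fun i j hij => ?_
    rw [hgc] at hij
    by_contra hne'
    apply hij
    have hij' : i ≠ j := fun e0 => hne' (by rw [e0]; rfl)
    rw [Matrix.add_apply, Matrix.one_apply_ne hij', zero_add, Matrix.vecMulVec_apply]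
    by_cases h0 : (e i).1 = 0
    · have : ¬ (e j).1 = 0 := fun h0' => hne' (h0.trans h0'.symm)
      simp [w₁, this]
    · simp [w₁, h0]
  · intro h
    refine not_tensor (β := b₁) (γ := b₂) (i₀ := (1 : Fin 2)) (i₁ := (0 : Fin 2)) (j₀ := z) (j := z) (l := o) ?_ ?_
      h.1
    · intro u v
      rw [← hBdef, hgc]
      simp [w₁, Matrix.vecMulVec_apply, Matrix.one_apply]
    · rw [← hBdef, hgc, if_neg hzo]
      simp [w₁, Matrix.vecMulVec_apply, Matrix.one_apply, hzo]
  · refine not_mem_blockStab (B := B) (g := x) (a := e.symm (0, o)) (a' := e.symm (1, z)) (b := e.symm (0, z))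
      ?_ ?_ (by simp) h.1
    · rw [hxc]
      simp [w₂, Matrix.vecMulVec_apply, Matrix.one_apply, Ne.symm hzo]
    · rw [hxc]
      simp [w₂, Matrix.vecMulVec_apply, Matrix.one_apply]

theorem exists_between_unitary_decomposition (hF : Fintype.card F = 4) (hn : 13 ≤ n) {t : ℕ}
    {D : Fin t → Submodule F (Fin n → F)} (hD : IsNondegenerateMDecomposition (hermForm n F 2) 2 D) :
    ∃ K : Subgroup (GL (Fin n) F), decompositionStabilizer D ⊓ (GU n F 2 ⊓ specialLinear (Fin n) F) < K ∧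
      K < GU n F 2 ⊓ specialLinear (Fin n) F := by
  obtain ⟨σ, hσ, hinv, hne, h2, hN⟩ := exists_sigma hF
  have hcard : n = t * 2 := by simpa using card_members hD.decomp
  have ht : 2 ≤ t := hD.decomp.two_le
  set f := formM σ ((1 : GL (Fin n) F) : Matrix (Fin n) (Fin n) F) with hf
  have hherm : hermForm n F 2 = f := by
    funext u v
    simp [hf, hermForm, formM, dotProduct, hσ]
  have hbasis : ∀ i, ∃ v : Fin 2 → (Fin n → F), (∀ u, v u ∈ D i) ∧ ∀ a b, f (v a) (v b) = if a = b then 1 else 0 := by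
    intro i
    let bb := Module.finBasisOfFinrankEq F (D i) (hD.decomp.finrank_eq i)
    let v₀ : Fin 2 → (Fin n → F) := fun u => (bb u : Fin n → F)
    let emb : (Fin 2 → F) →ₗ[F] (Fin n → F) := (D i).subtype ∘ₗ bb.equivFun.symm.toLinearMap
    have hemb : ∀ x, emb x = ∑ u, x u • v₀ u := fun x => by
      simp [emb, v₀, Module.Basis.equivFun_symm_apply]
    have hmem : ∀ x, emb x ∈ D i := fun x => Subtype.mem _
    let f₀ : (Fin 2 → F) → (Fin 2 → F) → F := fun x y => f (emb x) (emb y)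
    obtain ⟨A, hA, -⟩ := exists_gram (σ := σ) (f := f₀)
      (fun x y v => by simp only [f₀, map_add]; exact formM_add_left ..)
      (fun a x v => by simp only [f₀, map_smul]; exact formM_smul_left ..)
      (fun v x y => by simp only [f₀, map_add]; exact formM_add_right ..)
      (fun a v x => by simp only [f₀, map_smul]; exact formM_smul_right ..)
      (by
        intro x hx0
        have hx1 : emb x ≠ 0 := fun h0 => hx0 (bb.equivFun.symm.injective (Subtype.ext (by simpa [emb] using h0)))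
        obtain ⟨⟨y, hy, hy'⟩, ⟨z, hz, hz'⟩⟩ := hD.nondegenerate i (emb x) (hmem x) hx1
        rw [hherm] at hy' hz'
        refine ⟨⟨bb.equivFun ⟨y, hy⟩, ?_⟩, ⟨bb.equivFun ⟨z, hz⟩, ?_⟩⟩
        · show f (emb (bb.equivFun ⟨y, hy⟩)) (emb x) ≠ 0
          simpa [emb] using hy'
        · show f (emb x) (emb (bb.equivFun ⟨z, hz⟩)) ≠ 0
          simpa [emb] using hz')
    have hAherm : IsFormGram σ A 1 := by
      refine ⟨hinv, ?_⟩
      have hsym : ∀ u v, f u v = σ (f v u) := fun u v =>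
        (formM_eq_comm (G := (1 : GL (Fin n) F)) ⟨hinv, by simp [twist]⟩ u v).symm
      ext a b
      have e1 : ∀ p q, (A : Matrix (Fin 2) (Fin 2) F) p q = f₀ (Pi.single p 1) (Pi.single q 1) := fun p q => by
        rw [hA, formM_single]
      simp only [twist, Matrix.map_apply, Matrix.transpose_apply, one_smul, e1]
      exact (hsym _ _).symm
    obtain ⟨b, hb⟩ := exists_congr_one hne A hAherm
    refine ⟨fun u => emb ((b : Matrix (Fin 2) (Fin 2) F) *ᵥ Pi.single u 1), fun u => hmem _, fun p q => ?_⟩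
    show f₀ _ _ = _
    rw [hA, formM_mulVec, hb, formM_single, Matrix.one_apply]
  choose v hvmem hvorth using hbasis
  let idx : Fin n ≃ Fin t × Fin 2 := (Fintype.equivFinOfCardEq (by simp [hcard])).symm
  have horth : ∀ a b, f (v (idx a).1 (idx a).2) (v (idx b).1 (idx b).2) = if a = b then 1 else 0 := by
    intro a b
    by_cases h : (idx a).1 = (idx b).1
    · rw [← h, hvorth]
      exact if_congr ⟨fun h' => idx.injective (Prod.ext h h'), fun h' => by rw [h']⟩ rfl rfl
    · rw [if_neg (fun e0 => h (by rw [e0]))]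
      have := hD.orthogonal _ _ h _ (hvmem _ (idx a).2) _ (hvmem _ (idx b).2)
      rwa [hherm] at this
  obtain ⟨B, hcol, hB⟩ := gram_of_columns (σ := σ) (G := (1 : GL (Fin n) F))
    (fun a => v (idx a).1 (idx a).2) (fun _ => 1) horth (fun _ => one_ne_zero)
  rw [Units.val_one, mul_one, Matrix.diagonal_one] at hB
  obtain ⟨π, hπ⟩ := exists_compFamily hD.decomp.indep hD.decomp.iSup_eq_top
  -- the coordinates of vectors in a member are supported in the member
  have hsupp : ∀ i, ∀ x ∈ D i, ∀ a, (idx a).1 ≠ i → (((B⁻¹ : GL (Fin n) F) : Matrix (Fin n) (Fin n) F) *ᵥ x) a = 0 := by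
    intro i x hx a ha
    set y := ((B⁻¹ : GL (Fin n) F) : Matrix (Fin n) (Fin n) F) *ᵥ x with hy
    have hxy : x = (B : Matrix (Fin n) (Fin n) F) *ᵥ y := (mulVec_inv_mulVec B x).symm
    have h0 : f x (v (idx a).1 (idx a).2) = 0 := by
      have := hD.orthogonal _ _ (Ne.symm ha) _ hx _ (hvmem _ (idx a).2)
      rwa [hherm] at this
    have h1 : f x (v (idx a).1 (idx a).2) = y a := by
      rw [← hcol, hxy, hf, formM_mulVec, Units.val_one, mul_one, hB, formM, Matrix.one_mulVec]
      simp [dotProduct, Pi.single_apply, apply_ite σ]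
    rw [← h1, h0]
  let i₀ : Fin t := ⟨0, by omega⟩
  let i₁ : Fin t := ⟨1, by omega⟩
  have hi : i₀ ≠ i₁ := by simp [i₀, i₁]
  let p : Fin n := idx.symm (i₀, 0)
  let p' : Fin n := idx.symm (i₀, 1)
  let q : Fin n := idx.symm (i₁, 0)
  let q' : Fin n := idx.symm (i₁, 1)
  have hpp : p ≠ p' ∧ p ≠ q ∧ p ≠ q' ∧ p' ≠ q ∧ p' ≠ q' ∧ q ≠ q' := by
    simp [p, p', q, q', hi]
  obtain ⟨hpp', hpq, hpq', hp'q, hp'q', hqq'⟩ := hpp
  let w₁ : Fin n → F := fun i => if i = p ∨ i = q then 1 else 0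
  let w₂ : Fin n → F := fun i => if i = p ∨ i = q ∨ i = p' ∨ i = q' then 1 else 0
  have hw₁ : w₁ ⬝ᵥ w₁ = 0 := by
    rw [dotProduct, Finset.sum_eq_add p q hpq]
    · simp [w₁, one_add_one_eq_two, h2]
    · intro k _ hk; simp [w₁, hk.1, hk.2]
    · simp
    · simp
  have hw₂ : w₂ ⬝ᵥ w₂ = 0 := by
    have e0 : ∀ i, w₂ i * w₂ i = w₁ i + (if i = p' ∨ i = q' then (1 : F) else 0) := fun i => by
      by_cases h1 : i = p <;> by_cases h3 : i = q <;> by_cases h4 : i = p' <;> by_cases h5 : i = q' <;>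
        simp_all [w₁, w₂]
    rw [dotProduct, Finset.sum_congr rfl (fun i _ => e0 i), Finset.sum_add_distrib, Finset.sum_eq_add p q hpq,
      Finset.sum_eq_add p' q' hp'q']
    · simp [w₁, one_add_one_eq_two, h2]
    · intro k _ hk; simp [hk.1, hk.2]
    · simp
    · simp
    · intro k _ hk; simp [w₁, hk.1, hk.2]
    · simp
    · simp
  have hBc : (B : Matrix (Fin n) (Fin n) F)ᵀ * twist σ (B : Matrix (Fin n) (Fin n) F) =
      (1 : F) • (1 : Matrix (Fin n) (Fin n) F) := by rw [one_smul]; exact hB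
  obtain ⟨g, hg, hgc⟩ := exists_transvection hσ h2 hBc w₁ (fun i => by simp only [w₁]; split_ifs <;> simp) hw₁
  obtain ⟨x, hx, hxc⟩ := exists_transvection hσ h2 hBc w₂ (fun i => by simp only [w₂]; split_ifs <;> simp) hw₂
  refine exists_between (K := decompositionStabilizer (blocks B id) ⊓ (GU n F 2 ⊓ specialLinear (Fin n) F))
    (fun y hy => ⟨?_, hy.2⟩) inf_le_right (g := g) ⟨?_, hg⟩ ?_ hx (fun h => ?_)
  · have hX := coords_preserves (σ := σ) (G := (1 : GL (Fin n) F)) (B := B) (g := y)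
      (Δ := (1 : Matrix (Fin n) (Fin n) F)) (by rw [Units.val_one, mul_one]; exact hB)
      (by rw [Units.val_one, mul_one]; exact (mem_GU_iff hσ).mp hy.2.1)
    rw [mul_one] at hX
    obtain ⟨s, hs⟩ := exists_perm_of_monomial (B⁻¹ * y * B) fun j => by
      obtain ⟨j₁, hj₁⟩ := exists_member hy.1 (hvmem (idx j).1 (idx j).2)
      have hzero : ∀ a, (idx a).1 ≠ j₁ → coordsIn B y a j = 0 := by
        intro a ha
        have h0 := hsupp j₁ _ hj₁ a ha
        rw [← hcol, Matrix.mulVec_mulVec, Matrix.mulVec_mulVec, Matrix.mulVec_single_one] at h0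
        show ((B⁻¹ * y * B : GL (Fin n) F) : Matrix (Fin n) (Fin n) F) a j = 0
        rw [Units.val_mul, Units.val_mul]
        exact h0
      obtain ⟨u, hu, huniq⟩ := existsUnique_of_norms (σ := σ) h2 hN one_ne_zero
        (x := fun u => coordsIn B y (idx.symm (j₁, u)) j) (by
          have hjj := congrFun (congrFun hX j) j
          rw [Matrix.one_apply_eq, Matrix.mul_apply, ← Equiv.sum_comp idx.symm, Fintype.sum_prod_type,
            Finset.sum_eq_single j₁, Fin.sum_univ_two] at hjj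
          · simpa [twist] using hjj
          · intro i _ hi'
            refine Finset.sum_eq_zero fun u _ => ?_
            rw [Matrix.transpose_apply, hzero _ (by simpa using hi'), zero_mul]
          · simp)
      refine ⟨idx.symm (j₁, u), hu, fun a ha => ?_⟩
      have ha1 : (idx a).1 = j₁ := by
        by_contra h'
        exact ha (hzero a h')
      apply idx.injective
      rw [Equiv.apply_symm_apply]
      refine Prod.ext ha1 (huniq (idx a).2 ?_)
      show coordsIn B y (idx.symm (j₁, (idx a).2)) j ≠ 0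
      rw [← ha1, show ((idx a).1, (idx a).2) = idx a from rfl, Equiv.symm_apply_apply]
      exact ha
    exact mem_blockStab B id s hs
  · refine mem_blockStab B id (Equiv.swap p q) fun i j hij => ?_
    rw [hgc] at hij
    simp only [Matrix.add_apply, Matrix.one_apply, Matrix.vecMulVec_apply, w₁] at hij
    by_cases h1 : j = p
    · subst h1
      by_contra h'
      simp only [id_eq, Equiv.swap_apply_left] at h'
      by_cases h3 : i = p <;> simp [h', h3, one_add_one_eq_two, h2] at hij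
    by_cases h3 : j = q
    · subst h3
      by_contra h'
      simp only [id_eq, Equiv.swap_apply_right] at h'
      by_cases h4 : i = q <;> simp [h', h4, hpq, hpq.symm, one_add_one_eq_two, h2] at hij
    · simp only [id_eq, Equiv.swap_apply_of_ne_of_ne h1 h3]
      simpa [h1, h3] using hij
  · intro h
    obtain ⟨j₁, hj₁⟩ := exists_member h.1 (hvmem i₀ 0)
    obtain ⟨s, hs⟩ := h.1
    have hj₂ : ∀ u, (g : Matrix (Fin n) (Fin n) F) *ᵥ v i₀ u ∈ D (s i₀) := fun u => by
      rw [← hs i₀]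
      exact ⟨v i₀ u, hvmem i₀ u, Matrix.toLin'_apply _ _⟩
    have hcoord : ∀ u a, coordsIn B g a (idx.symm (i₀, u)) ≠ 0 → (idx a).1 = s i₀ := by
      intro u a ha
      by_contra h'
      apply ha
      have h0 := hsupp _ _ (hj₂ u) a h'
      have hc' : v i₀ u = (B : Matrix (Fin n) (Fin n) F) *ᵥ Pi.single (idx.symm (i₀, u)) 1 := by
        rw [hcol]; simp
      rw [hc', Matrix.mulVec_mulVec, Matrix.mulVec_mulVec, Matrix.mulVec_single_one] at h0
      show ((B⁻¹ * g * B : GL (Fin n) F) : Matrix (Fin n) (Fin n) F) a _ = 0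
      rw [Units.val_mul, Units.val_mul]
      exact h0
    have e1 := hcoord 0 q (by rw [hgc]; simp [w₁, Matrix.vecMulVec_apply, p, q, Matrix.one_apply, hi, Ne.symm hi])
    have e2 := hcoord 1 p' (by rw [hgc]; simp [w₁, Matrix.vecMulVec_apply, p, p', q, Matrix.one_apply, hi])
    simp [q, p'] at e1 e2
    exact hi (e2.trans e1.symm)
  · refine not_mem_blockStab (B := B) (r := id) (g := x) (a := q) (a' := p') (b := p) ?_ ?_
      (by simpa using hp'q.symm) h.1
    · rw [hxc]; simp [w₂, Matrix.vecMulVec_apply, hpq.symm]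
    · rw [hxc]; simp [w₂, Matrix.vecMulVec_apply, hpp'.symm]

end Cfsg.Agent.Lib.NonMax
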